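import Groth.Agent.Lib.LocCohZ.ModCompare
import Groth.Agent.Lib.ModM1.Stalk
import Groth.Agent.Lib.ModM1.Coh
import Groth.Agent.Lib.RDerLES.Horseshoe
import Groth.Agent.Lib.Depth.Basic
import Groth.Agent.Lib.Depth.More
import Groth.Agent.Lib.ClosedAlong.Criteria
import Groth.Agent.Lib.FlatDepth.Fibre
import Groth.Prelude.Def_RefHull
import Groth.Prelude.Def_Formal

/-!
# Vanishing of local cohomology sheaves and depth
-/

set_option autoImplicit false
set_option backward.isDefEq.respectTransparency false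
set_option maxHeartbeats 400000

universe v v' u u'

open CategoryTheory CategoryTheory.Limits AlgebraicGeometry Opposite TopologicalSpace Pointwise

noncomputable section

namespace Groth.Agent.LocCohZQ

open Groth.Agent.M1

/-- A derived functor is linear for compatible central elements. -/
theorem rightDerived_map_center {A : Type u} [Category.{v} A] [Abelian A] [EnoughInjectives A]
    {B : Type u'} [Category.{v'} B] [Abelian B] (F : A ⥤ B) [F.Additive] (z : 𝟭 A ⟶ 𝟭 A) (z' : 𝟭 B ⟶ 𝟭 B)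
    (h : ∀ X, F.map (z.app X) = z'.app (F.obj X)) (n : ℕ) (X : A) :
    (F.rightDerived n).map (z.app X) = z'.app ((F.rightDerived n).obj X) := by
  let R := injectiveResolution X
  let φ : R.cocomplex ⟶ R.cocomplex :=
    { f := fun k => z.app (R.cocomplex.X k)
      comm' := fun i k _ => (z.naturality (R.cocomplex.d i k)).symm }
  have e := InjectiveResolution.isoRightDerivedObj_hom_naturality (z.app X) R R φ
    (z.naturality (R.ι.f 0)) F n
  let K := (F.mapHomologicalComplex (ComplexShape.up ℕ)).obj R.cocomplex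
  have key : (F.mapHomologicalComplex (ComplexShape.up ℕ) ⋙
      HomologicalComplex.homologyFunctor B (ComplexShape.up ℕ) n).map φ = z'.app (K.homology n) := by
    change HomologicalComplex.homologyMap ((F.mapHomologicalComplex (ComplexShape.up ℕ)).map φ) n = _
    rw [← cancel_epi (K.homologyπ n), HomologicalComplex.homologyπ_naturality]
    have hc : HomologicalComplex.cyclesMap ((F.mapHomologicalComplex (ComplexShape.up ℕ)).map φ) n =
        z'.app (K.cycles n) := by
      rw [← cancel_mono (K.iCycles n), HomologicalComplex.cyclesMap_i]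
      exact (congrArg (K.iCycles n ≫ ·) (h (R.cocomplex.X n))).trans (z'.naturality (K.iCycles n))
    rw [hc]
    exact (z'.naturality (K.homologyπ n)).symm
  rw [← cancel_mono (R.isoRightDerivedObj F n).hom]
  refine e.trans ?_
  rw [key]
  exact z'.naturality (R.isoRightDerivedObj F n).hom

variable {X : Scheme.{u}}

/-- Multiplication by a global function. -/
def smulC (r : Γ(X, ⊤)) : 𝟭 X.Modules ⟶ 𝟭 X.Modules where
  app M := Formal.smulModΓ M r
  naturality M N φ := by
    ext V s
    exact (Scheme.Modules.Hom.app_smul φ (ores (le_top : V ≤ ⊤) r) s).symm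

theorem smulC_app (r : Γ(X, ⊤)) (M : X.Modules) (V : X.Opens) (s : Γ(M, V)) :
    ((smulC r).app M).app V s = ores (le_top : V ≤ ⊤) r • s := rfl

theorem gammaZ_smulC (U : X.Opens) (r : Γ(X, ⊤)) (M : X.Modules) :
    (DCoh.gammaZ U.ι).map ((smulC r).app M) = (smulC r).app ((DCoh.gammaZ U.ι).obj M) := by
  haveI := mono_gammaι U M
  apply (cancel_mono ((gammaι U.ι).app M)).1
  refine ((gammaι U.ι).naturality ((smulC r).app M)).trans ?_
  exact ((smulC r).naturality ((gammaι U.ι).app M))

/-- Multiplication on stalks. -/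
theorem stalk_smulC (r : Γ(X, ⊤)) (M : X.Modules) (x : X) (a : M.presheaf.stalk x) :
    (stalkAb x).map ((smulC r).app M) a = X.presheaf.germ ⊤ x trivial r • a := by
  obtain ⟨V, hxV, s, rfl⟩ := M.presheaf.exists_germ_eq a
  refine (germ_naturality ((smulC r).app M) V x hxV s).trans ?_
  rw [smulC_app]
  refine (germ_smul M hxV _ s).trans ?_
  congr 1
  exact X.presheaf.germ_res_apply (homOfLE (le_top : V ≤ ⊤)) x hxV r

section depth

open IsLocalRing

/-- Depth is invariant under semilinear isomorphisms. -/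
theorem depth_congr_semilinear {R S : Type u} [CommRing R] [CommRing S] [IsLocalRing R] [IsLocalRing S]
    {M N : Type u} [AddCommGroup M] [Module R M] [AddCommGroup N] [Module S N] (e : R ≃+* S) (g : M ≃+ N)
    (hg : ∀ (r : R) (m : M), g (r • m) = e r • g m) : LocCoh.depth R M = LocCoh.depth S N := by
  letI : Algebra R S := e.toRingHom.toAlgebra
  letI : Module R N := Module.compHom N e.toRingHom
  haveI : IsScalarTower R S N := IsScalarTower.of_algebraMap_smul fun r n => rfl
  refine Eq.trans ?_ (FlatDepth.depth_eq_of_surjective (A := R) (B := S) (M := N) e.surjective)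
  exact DepthLib.idealDepth_congr { g with map_smul' := hg }

/-- The depth of a stalk through the sections over an affine open. -/
theorem depth_stalk_eq (M : X.Modules) [Coh.IsQCoh M] {W : X.Opens} (hW : IsAffineOpen W) {x : X} (hx : x ∈ W) :
    LocCoh.depth (X.presheaf.stalk x) (M.presheaf.stalk x) =
      LocCoh.depth (Localization.AtPrime (hW.primeIdealOf ⟨x, hx⟩).asIdeal)
        (LocalizedModule (hW.primeIdealOf ⟨x, hx⟩).asIdeal.primeCompl Γ(M, W)) := by
  let P := (hW.primeIdealOf ⟨x, hx⟩).asIdeal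
  letI := TopCat.Presheaf.algebra_section_stalk X.presheaf (⟨x, hx⟩ : W)
  haveI : IsLocalization.AtPrime (X.presheaf.stalk x) P := hW.isLocalization_stalk ⟨x, hx⟩
  letI := stalkModule M hx
  haveI := isLocalizedModule_germ M hW hx
  let e := IsLocalization.algEquiv P.primeCompl (Localization.AtPrime P) (X.presheaf.stalk x)
  let g : LocalizedModule P.primeCompl Γ(M, W) ≃ₗ[Γ(X, W)] M.presheaf.stalk x :=
    IsLocalizedModule.iso P.primeCompl (germₗ M hx)
  refine (depth_congr_semilinear e.toRingEquiv g.toAddEquiv fun c m => ?_).symm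
  obtain ⟨⟨a, s⟩, hc⟩ := IsLocalization.surj P.primeCompl c
  have hu : IsUnit (algebraMap Γ(X, W) (X.presheaf.stalk x) s) := IsLocalization.map_units _ s
  apply hu.smul_left_cancel.1
  have h1 : (s : Γ(X, W)) • (c • m) = a • m := by
    rw [← algebraMap_smul (Localization.AtPrime P) (s : Γ(X, W)), smul_smul, mul_comm, hc, algebraMap_smul]
  have h2 : algebraMap Γ(X, W) (X.presheaf.stalk x) s * e c = algebraMap Γ(X, W) (X.presheaf.stalk x) a := by
    rw [← e.commutes, ← map_mul, mul_comm, hc, e.commutes]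
  calc algebraMap Γ(X, W) (X.presheaf.stalk x) s • g.toAddEquiv (c • m)
      = (s : Γ(X, W)) • g (c • m) := rfl
    _ = g ((s : Γ(X, W)) • (c • m)) := (map_smul g _ _).symm
    _ = g (a • m) := by rw [h1]
    _ = a • g m := map_smul g _ _
    _ = algebraMap Γ(X, W) (X.presheaf.stalk x) a • g m := rfl
    _ = _ := by rw [← h2, mul_smul]; rfl

/-- The depth of stalks is unchanged by restriction to an open. -/
theorem depth_restrict (M : X.Modules) (W : X.Opens) (y : (W : Scheme.{u})) :
    LocCoh.depth (X.presheaf.stalk (W.ι y)) (M.presheaf.stalk (W.ι y)) =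
      LocCoh.depth ((W : Scheme.{u}).presheaf.stalk y) ((M.restrict W.ι).presheaf.stalk y) := by
  let g := ((Scheme.Modules.restrictStalkNatIso W.ι y).app M).addCommGroupIsoToAddEquiv.symm
  let e := (asIso (W.ι.stalkMap y)).commRingCatIsoToRingEquiv
  refine depth_congr_semilinear e g fun r a => ?_
  obtain ⟨V₁, h₁, r, rfl⟩ := X.presheaf.exists_germ_eq r
  obtain ⟨V₂, h₂, a, rfl⟩ := M.presheaf.exists_germ_eq a
  let V : (W : Scheme.{u}).Opens := W.ι ⁻¹ᵁ (V₁ ⊓ V₂)
  have hy : y ∈ V := ⟨h₁, h₂⟩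
  have hy' : W.ι y ∈ W.ι ''ᵁ V := ⟨y, hy, rfl⟩
  have i₁ : W.ι ''ᵁ V ≤ V₁ := (W.ι.image_preimage_le _).trans inf_le_left
  have i₂ : W.ι ''ᵁ V ≤ V₂ := (W.ι.image_preimage_le _).trans inf_le_right
  rw [← X.presheaf.germ_res_apply (homOfLE i₁) (W.ι y) hy' r, ← germ_mres M i₂ hy' a]
  refine (congrArg g (germ_smul M hy' _ _).symm).trans ?_
  have hg : ∀ t : Γ(M, W.ι ''ᵁ V), g (M.presheaf.germ _ (W.ι y) hy' t) =
      (M.restrict W.ι).presheaf.germ V y hy t := fun t =>
    ConcreteCategory.congr_hom (Scheme.Modules.germ_restrictStalkNatIso_inv_app W.ι y M hy) t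
  have key : ∀ (r' : Γ(X, W.ι ''ᵁ V)) (m' : Γ(M, W.ι ''ᵁ V)), r' • m' =
      ((show Γ((W : Scheme.{u}), V) from r') • (show Γ(M.restrict W.ι, V) from m') : Γ(M.restrict W.ι, V)) :=
    fun r' m' => (restrict_ι_smul M r' m').symm
  refine (hg _).trans ((congrArg ((M.restrict W.ι).presheaf.germ V y hy) (key (ores i₁ r) (mres M i₂ a))).trans
    ((germ_smul (M.restrict W.ι) hy _ _).trans ?_))
  refine congrArg₂ (fun (p : (W : Scheme.{u}).presheaf.stalk y) q => p • q) ?_ (hg (mres M i₂ a)).symm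
  change _ = W.ι.stalkMap y (X.presheaf.germ (W.ι ''ᵁ V) (W.ι y) hy' (ores i₁ r))
  rw [Scheme.Hom.germ_stalkMap_apply]
  refine Eq.trans ?_ ((W : Scheme.{u}).presheaf.germ_res_apply
    (eqToHom (W.ι.preimage_image_eq V).symm) y hy _)
  rw [Scheme.Opens.ι_app]
  simp only [← CommRingCat.comp_apply, Scheme.Opens.toScheme_presheaf_map, ← Functor.map_comp]
  rfl

end depth

theorem isZero_of_sections_top [IsAffine X] (Q : X.Modules) [Coh.IsQCoh Q] (h : ∀ t : Γ(Q, ⊤), t = 0) :
    IsZero Q := by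
  have h0 : ∀ (x : X) (a : Q.presheaf.stalk x), a = 0 := by
    intro x a
    obtain ⟨r, m, hr, he⟩ := exists_germ_smul_eq Q (isAffineOpen_top X) (x := x) trivial a
    rw [h m, map_zero] at he
    exact hr.smul_eq_zero.mp he
  rw [IsZero.iff_id_eq_zero]
  ext V s
  exact section_ext _ _ fun x hx => (h0 x _).trans (h0 x _).symm

theorem eq_zero_of_isZero (Q : X.Modules) (h : IsZero Q) (V : X.Opens) (s : Γ(Q, V)) : s = 0 :=
  congrArg (fun f : Q ⟶ Q => f.app V s) (h.eq_of_src (𝟙 Q) 0)

section Affine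

variable [IsAffine X] [IsNoetherianRing Γ(X, ⊤)]

omit [IsNoetherianRing Γ(X, ⊤)] in
theorem mem_prime_iff (g : Γ(X, ⊤)) (x : X) :
    g ∈ ((isAffineOpen_top X).primeIdealOf ⟨x, trivial⟩).asIdeal ↔ x ∉ X.basicOpen g := by
  rw [X.mem_basicOpen g x trivial, isUnit_germ_iff (isAffineOpen_top X) trivial g]
  exact not_not.symm

/-- The functions vanishing outside `U`. -/
def vanIdeal (U : X.Opens) : Ideal Γ(X, ⊤) :=
  ⨅ (x : X) (_ : x ∉ U), ((isAffineOpen_top X).primeIdealOf ⟨x, trivial⟩).asIdeal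

omit [IsNoetherianRing Γ(X, ⊤)] in
theorem basicOpen_le_of_mem (U : X.Opens) {f : Γ(X, ⊤)} (hf : f ∈ vanIdeal U) : X.basicOpen f ≤ U := by
  intro x hx
  by_contra h
  simp only [vanIdeal, Submodule.mem_iInf] at hf
  exact (mem_prime_iff f x).1 (hf x h) hx

omit [IsNoetherianRing Γ(X, ⊤)] in
theorem exists_mem_vanIdeal (U : X.Opens) {y : X} (hy : y ∈ U) : ∃ g ∈ vanIdeal U, y ∈ X.basicOpen g := by
  obtain ⟨g, hgU, hyg⟩ := (isAffineOpen_top X).exists_basicOpen_le (V := U) ⟨y, hy⟩ trivial
  refine ⟨g, ?_, hyg⟩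
  simp only [vanIdeal, Submodule.mem_iInf]
  exact fun x hx => (mem_prime_iff g x).2 fun h => hx (hgU h)

/-- Depth one along `Z` gives a regular function vanishing on `Z`. -/
theorem exists_regular (U : X.Opens) (M : X.Modules) (hM : Coh.IsCoh M)
    (h : ∀ x : X, x ∉ U → (1 : ℕ∞) ≤ LocCoh.depth (X.presheaf.stalk x) (M.presheaf.stalk x)) :
    ∃ f ∈ vanIdeal U, IsSMulRegular Γ(M, ⊤) f := by
  haveI := hM.1
  haveI : Module.Finite Γ(X, ⊤) Γ(M, ⊤) := finite_sections hM.1 hM.2 (isAffineOpen_top X)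
  refine ClosedAlong.exists_regular_mem fun q hq hle => ?_
  haveI := hq.isPrime
  let y : X := (isAffineOpen_top X).fromSpec ⟨q, hq.isPrime⟩
  have hy : ((isAffineOpen_top X).primeIdealOf ⟨y, trivial⟩) = ⟨q, hq.isPrime⟩ :=
    (isAffineOpen_top X).fromSpec.isOpenEmbedding.injective ((isAffineOpen_top X).fromSpec_primeIdealOf _)
  have hyU : y ∉ U := by
    intro hU
    obtain ⟨g, hg, hyg⟩ := exists_mem_vanIdeal U hU
    refine (mem_prime_iff g y).1 ?_ hyg
    rw [hy]
    exact hle hg
  have h1 := h y hyU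
  rw [depth_stalk_eq M (isAffineOpen_top X) (x := y) trivial, hy] at h1
  exact ClosedAlong.notMem_associatedPrimes_of_one_le_depth q h1 hq

/-- No sections supported on `Z` gives depth one along `Z`. -/
theorem one_le_depth_of_gamma (U : X.Opens) (M : X.Modules) (hM : Coh.IsCoh M)
    (h : IsZero ((DCoh.gammaZ U.ι).obj M)) (x : X) (hx : x ∉ U) :
    (1 : ℕ∞) ≤ LocCoh.depth (X.presheaf.stalk x) (M.presheaf.stalk x) := by
  haveI := hM.1
  haveI : Module.Finite Γ(X, ⊤) Γ(M, ⊤) := finite_sections hM.1 hM.2 (isAffineOpen_top X)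
  rw [depth_stalk_eq M (isAffineOpen_top X) (x := x) trivial]
  refine ClosedAlong.one_le_depth_of_notMem_associatedPrimes _ fun hq => ?_
  obtain ⟨hp, m, hm⟩ := isAssociatedPrime_iff.mp hq
  have hm0 : m ≠ 0 := by
    rintro rfl
    refine hp.ne_top ?_
    rw [hm, Ideal.eq_top_iff_one, Submodule.mem_colon_singleton, smul_zero]
    exact zero_mem _
  refine hm0 ?_
  have hvan : mres M (inf_le_left : ⊤ ⊓ U ≤ ⊤) m = 0 := by
    refine section_ext _ _ fun y hy => ?_
    rw [germ_mres, map_zero]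
    obtain ⟨g, hg, hyg⟩ := exists_mem_vanIdeal U hy.2
    have hgx : g ∈ ((isAffineOpen_top X).primeIdealOf ⟨x, trivial⟩).asIdeal := by
      simp only [vanIdeal, Submodule.mem_iInf] at hg
      exact hg x hx
    rw [hm, Submodule.mem_colon_singleton, Submodule.mem_bot] at hgx
    have h1 := congrArg (M.presheaf.germ ⊤ y trivial) hgx
    rw [germ_smul, map_zero] at h1
    exact ((X.mem_basicOpen g y trivial).mp hyg).smul_eq_zero.mp h1
  obtain ⟨t, ht⟩ := exists_gamma_preimage U M ⊤ m hvan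
  rw [← ht, eq_zero_of_isZero _ h ⊤ t, map_zero]

omit [IsNoetherianRing Γ(X, ⊤)] in
theorem stalk_regular (M : X.Modules) [Coh.IsQCoh M] {f : Γ(X, ⊤)} (hf : IsSMulRegular Γ(M, ⊤) f) (x : X) :
    IsSMulRegular (M.presheaf.stalk x) (X.presheaf.germ ⊤ x trivial f) := by
  rw [isSMulRegular_iff_right_eq_zero_of_smul]
  intro a ha
  obtain ⟨r, m, hr, he⟩ := exists_germ_smul_eq M (isAffineOpen_top X) (x := x) trivial a
  have h0 : M.presheaf.germ ⊤ x trivial (f • m) = 0 := by
    rw [germ_smul, ← he, smul_comm, ha, smul_zero]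
  obtain ⟨s, hs, hs0⟩ := exists_smul_eq_zero_of_germ_eq_zero M (isAffineOpen_top X) trivial _ h0
  have h1 : s • m = 0 := hf.right_eq_zero_of_smul (by rw [smul_comm]; exact hs0)
  have h2 : M.presheaf.germ ⊤ x trivial m = 0 := by
    have := congrArg (M.presheaf.germ ⊤ x trivial) h1
    rw [germ_smul, map_zero] at this
    exact hs.smul_eq_zero.mp this
  rw [h2] at he
  exact hr.smul_eq_zero.mp he

omit [IsNoetherianRing Γ(X, ⊤)] in
theorem mono_smulC (M : X.Modules) [Coh.IsQCoh M] {f : Γ(X, ⊤)} (hf : IsSMulRegular Γ(M, ⊤) f) :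
    Mono ((smulC f).app M) := by
  rw [mono_iff_stalk]
  intro x a b hab
  rw [stalk_smulC, stalk_smulC] at hab
  exact stalk_regular M hf x hab

/-- The sequence `0 → M → M → M/fM → 0`. -/
abbrev smulSeq (M : X.Modules) (f : Γ(X, ⊤)) : ShortComplex X.Modules :=
  ShortComplex.mk ((smulC f).app M) (cokernel.π ((smulC f).app M)) (cokernel.condition _)

omit [IsAffine X] [IsNoetherianRing Γ(X, ⊤)] in
theorem smulSeq_shortExact (M : X.Modules) (f : Γ(X, ⊤)) (hf : Mono ((smulC f).app M)) :
    (smulSeq M f).ShortExact where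
  exact := ShortComplex.exact_cokernel _
  mono_f := hf
  epi_g := inferInstance

omit [IsAffine X] [IsNoetherianRing Γ(X, ⊤)] in
/-- The stalks of `M/fM`. -/
theorem depth_stalk_coker [IsLocallyNoetherian X] (M : X.Modules) (hM : Coh.IsCoh M) (f : Γ(X, ⊤)) (x : X)
    (hfx : X.presheaf.germ ⊤ x trivial f ∈ IsLocalRing.maximalIdeal (X.presheaf.stalk x))
    (hreg : IsSMulRegular (M.presheaf.stalk x) (X.presheaf.germ ⊤ x trivial f)) (n : ℕ) :
    (n : ℕ∞) ≤ LocCoh.depth (X.presheaf.stalk x) ((cokernel ((smulC f).app M)).presheaf.stalk x) ↔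
      ((n + 1 : ℕ) : ℕ∞) ≤ LocCoh.depth (X.presheaf.stalk x) (M.presheaf.stalk x) := by
  haveI : Module.Finite (X.presheaf.stalk x) (M.presheaf.stalk x) := finite_stalk hM.1 hM.2 x
  let r : X.presheaf.stalk x := X.presheaf.germ ⊤ x trivial f
  let π := cokernel.π ((smulC f).app M)
  let πx : M.presheaf.stalk x →ₗ[X.presheaf.stalk x] (cokernel ((smulC f).app M)).presheaf.stalk x :=
    RefHull.stalkMapₗ π x
  have hs : Function.Surjective πx := (epi_iff_stalk π).1 inferInstance x
  have hk : LinearMap.ker πx = r • (⊤ : Submodule (X.presheaf.stalk x) (M.presheaf.stalk x)) := by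
    ext a
    rw [LinearMap.mem_ker, Submodule.mem_smul_pointwise_iff_exists]
    constructor
    · intro ha
      obtain ⟨b, hb⟩ := exact_elem (S := smulSeq M f) (ShortComplex.exact_cokernel _) x a ha
      exact ⟨b, trivial, (stalk_smulC f M x b).symm.trans hb⟩
    · rintro ⟨b, -, rfl⟩
      refine Eq.trans (congrArg ((stalkAb x).map π) (stalk_smulC f M x b).symm) ?_
      refine (stalk_comp_apply ((smulC f).app M) π x b).symm.trans ?_
      rw [cokernel.condition]
      exact stalkAb_map_zero x b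
  let e : QuotSMulTop r (M.presheaf.stalk x) ≃ₗ[X.presheaf.stalk x] (cokernel ((smulC f).app M)).presheaf.stalk x :=
    (Submodule.quotEquivOfEq _ _ hk.symm).trans (LinearMap.quotKerEquivOfSurjective πx hs)
  rw [LocCoh.depth, ← DepthLib.idealDepth_congr e]
  exact DepthLib.natCast_le_idealDepth_quotSMulTop_iff hfx hreg n

omit [IsNoetherianRing Γ(X, ⊤)] in
theorem germ_mem_maximal (U : X.Opens) {f : Γ(X, ⊤)} (hf : f ∈ vanIdeal U) {x : X} (hx : x ∉ U) :
    X.presheaf.germ ⊤ x trivial f ∈ IsLocalRing.maximalIdeal (X.presheaf.stalk x) := by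
  simp only [vanIdeal, Submodule.mem_iInf] at hf
  exact fun hu => ((isUnit_germ_iff (isAffineOpen_top X) trivial f).1 hu) (hf x hx)

omit [IsNoetherianRing Γ(X, ⊤)] in
/-- A function vanishing on `Z` and injective on `ℋ^i_Z` kills it. -/
theorem isZero_of_mono_smul (U : X.Opens) [QuasiCompact U.ι] [HasInjectiveResolutions X.Modules]
    (M : X.Modules) (hM : Coh.IsQCoh M) {f : Γ(X, ⊤)} (hf : f ∈ vanIdeal U) (i : ℕ)
    (hmono : Mono ((_root_.LocCohZ.HZshM U.ι i).map ((smulC f).app M))) :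
    IsZero ((_root_.LocCohZ.HZshM U.ι i).obj M) := by
  let Q := (_root_.LocCohZ.HZshM U.ι i).obj M
  haveI : Coh.IsQCoh Q := isQCoh_HZshM U.ι hM i
  have hz : (_root_.LocCohZ.HZshM U.ι i).map ((smulC f).app M) = (smulC f).app Q :=
    rightDerived_map_center (DCoh.gammaZ U.ι) (smulC f) (smulC f) (gammaZ_smulC U f) i M
  haveI : Mono ((smulC f).app Q) := hz ▸ hmono
  let W := X.basicOpen f
  haveI : HasInjectiveResolutions (W : Scheme.{u}).Modules := inferInstance
  obtain ⟨e⟩ := nonempty_HZshM_restrict U W.ι i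
  have hW : IsZero ((Scheme.Modules.restrictFunctor W.ι).obj Q) :=
    (isZero_HZshM_top (W.ι ⁻¹ᵁ U) (fun y => basicOpen_le_of_mem U hf y.2) _ i).of_iso (e.app M)
  refine isZero_of_sections_top Q fun t => ?_
  have ht : mres Q (X.basicOpen_le f) t = 0 := by
    have h1 : mres Q (le_top : W.ι ''ᵁ ⊤ ≤ ⊤) t = 0 := eq_zero_of_isZero _ hW ⊤ _
    rw [← mres_mres Q (le_top : W.ι ''ᵁ ⊤ ≤ ⊤) (image_ι_top W).ge, h1, map_zero]
  obtain ⟨n, hn⟩ := exists_pow_smul_eq_zero_affine Q (isAffineOpen_top X) f t ht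
  induction n with
  | zero => simpa using hn
  | succ n ih =>
    apply ih
    apply app_injective ((smulC f).app Q) ⊤
    rw [map_zero, smulC_app, ores_id, smul_smul, ← pow_succ']
    exact hn

/-- Vanishing below `n` is depth at least `n` along `Z`, on an affine scheme. -/
theorem vanish_iff_depth_affine [IsLocallyNoetherian X] (U : X.Opens) [QuasiCompact U.ι]
    [HasInjectiveResolutions X.Modules] (n : ℕ) :
    ∀ (M : X.Modules), Coh.IsCoh M →
      ((∀ i : ℕ, i < n → IsZero ((_root_.LocCohZ.HZshM U.ι i).obj M)) ↔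
        ∀ x : X, x ∉ U → (n : ℕ∞) ≤ LocCoh.depth (X.presheaf.stalk x) (M.presheaf.stalk x)) := by
  haveI : PreservesFiniteLimits (DCoh.gammaZ U.ι) := preservesFiniteLimits_gammaZ U.ι
  induction n with
  | zero => exact fun M _ => ⟨fun _ x _ => by simp, fun _ i hi => absurd hi (Nat.not_lt_zero i)⟩
  | succ n ih =>
    intro M hM
    haveI := hM.1
    constructor
    · intro h x hx
      have h1 : ∀ y : X, y ∉ U → (1 : ℕ∞) ≤ LocCoh.depth (X.presheaf.stalk y) (M.presheaf.stalk y) :=
        one_le_depth_of_gamma U M hM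
          ((h 0 n.succ_pos).of_iso ((DCoh.gammaZ U.ι).rightDerivedZeroIsoSelf.app M).symm)
      obtain ⟨f, hf, hreg⟩ := exists_regular U M hM h1
      have hS := smulSeq_shortExact M f (mono_smulC M hreg)
      obtain ⟨T⟩ := RDerLES.exists_sesRes hS
      have hC : ∀ i : ℕ, i < n → IsZero ((_root_.LocCohZ.HZshM U.ι i).obj (cokernel ((smulC f).app M))) := fun i hi => by
        obtain ⟨w, he⟩ := (RDerLES.exact_sequences (DCoh.gammaZ U.ι) T i (i + 1) rfl).2.1
        exact he.isZero_of_both_zeros ((h i (by omega)).eq_of_src _ _) ((h (i + 1) (by omega)).eq_of_tgt _ _)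
      exact (depth_stalk_coker M hM f x (germ_mem_maximal U hf hx) (stalk_regular M hreg x) n).1
        ((ih _ (isCoh_cokernel hM.1 hM ((smulC f).app M))).1 hC x hx)
    · intro h i hi
      obtain ⟨f, hf, hreg⟩ := exists_regular U M hM fun x hx =>
        le_trans (by exact_mod_cast Nat.succ_pos n) (h x hx)
      have hmono := mono_smulC M hreg
      have hC := (ih _ (isCoh_cokernel hM.1 hM ((smulC f).app M))).2 fun x hx =>
        (depth_stalk_coker M hM f x (germ_mem_maximal U hf hx) (stalk_regular M hreg x) n).2 (h x hx)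
      refine isZero_of_mono_smul U M hM.1 hf i ?_
      rcases i with _ | k
      · haveI := Functor.preservesMonomorphisms.of_iso (DCoh.gammaZ U.ι).rightDerivedZeroIsoSelf.symm
        exact Functor.map_mono _ _
      · obtain ⟨T⟩ := RDerLES.exists_sesRes (smulSeq_shortExact M f hmono)
        obtain ⟨w, he⟩ := (RDerLES.exact_sequences (DCoh.gammaZ U.ι) T k (k + 1) rfl).2.2
        exact he.mono_g ((hC k (by omega)).eq_of_src _ _)

end Affine

end Groth.Agent.LocCohZQ
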