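import Groth.Agent.Lib.CohFound.RpushQCoh
import Groth.Agent.Lib.CohFound.ModFlasque
import Groth.Agent.Lib.RDSeq.Basic
import Groth.Agent.Lib.ModM1.Local
import Groth.Prelude.Def_LocCohZ

/-!
# Local cohomology sheaves of quasi-coherent modules are quasi-coherent
-/

set_option autoImplicit false
set_option maxHeartbeats 400000

universe u

open CategoryTheory CategoryTheory.Limits AlgebraicGeometry Opposite TopologicalSpace

noncomputable section

namespace Groth.Agent.LocCohZQ

open Groth.Agent.CohFound

variable {U Y : Scheme.{u}} (j : U ⟶ Y) [IsOpenImmersion j]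

/-- `j_* j^*`. -/
abbrev pp : Y.Modules ⥤ Y.Modules := Scheme.Modules.restrictFunctor j ⋙ Scheme.Modules.pushforward j

/-- The inclusion of sections with supports. -/
def gammaι : DCoh.gammaZ j ⟶ 𝟭 Y.Modules where
  app F := kernel.ι ((Scheme.Modules.restrictAdjunction j).unit.app F)
  naturality _ _ φ := kernel.lift_ι _ _ _

theorem seq_zero (F : Y.Modules) :
    (gammaι j).app F ≫ (Scheme.Modules.restrictAdjunction j).unit.app F = 0 :=
  kernel.condition _

theorem surjective_res_of_injective (I : Y.Modules) [hI : Injective I] {V W : Y.Opens} (h : W ≤ V) :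
    Function.Surjective (I.presheaf.map (homOfLE h).op) := fun s => by
  obtain ⟨t, ht⟩ := surjective_map_of_injective Y.ringCatSheaf I hI h s
  exact ⟨t, ht⟩

theorem surjective_unit_app (I : Y.Modules) [hI : Injective I] (V : Y.Opens) :
    Function.Surjective (((Scheme.Modules.restrictAdjunction j).unit.app I).app V) := by
  rw [Scheme.Modules.restrictAdjunction_unit_app_app]
  exact surjective_res_of_injective I (j.image_preimage_le V)

theorem epi_unit_of_injective (I : Y.Modules) [Injective I] :
    Epi ((Scheme.Modules.restrictAdjunction j).unit.app I) := by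
  refine (Scheme.Modules.toPresheaf Y).epi_of_epi_map ?_
  haveI : ∀ V, Epi (((Scheme.Modules.toPresheaf Y).map
      ((Scheme.Modules.restrictAdjunction j).unit.app I)).app V) := fun V =>
    (AddCommGrpCat.epi_iff_surjective _).2 (surjective_unit_app j I V.unop)
  exact NatTrans.epi_of_epi_app _

theorem seq_shortExact (I : Y.Modules) [Injective I] :
    (ShortComplex.mk _ _ (seq_zero j I)).ShortExact where
  exact := ShortComplex.exact_kernel _
  mono_f := inferInstanceAs (Mono (kernel.ι ((Scheme.Modules.restrictAdjunction j).unit.app I)))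
  epi_g := epi_unit_of_injective j I

theorem isZero_rightDerived_id {A : Type*} [Category A] [Abelian A] [EnoughInjectives A] (X : A) (i : ℕ) :
    IsZero (((𝟭 A).rightDerived (i + 1)).obj X) := by
  let R := injectiveResolution X
  refine IsZero.of_iso ?_ (R.isoRightDerivedObj _ (i + 1))
  exact (R.cocomplex_exactAt_succ i).isZero_homology.of_iso (Iso.refl _)

theorem preservesFiniteLimits_pp : PreservesFiniteLimits (pp j) := by
  haveI h1 : PreservesFiniteLimits (Scheme.Modules.pushforward j) :=
    haveI : PreservesLimitsOfSize.{0, 0} (Scheme.Modules.pushforward j) :=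
      (Scheme.Modules.restrictAdjunction j).rightAdjoint_preservesLimits
    PreservesLimitsOfSize.preservesFiniteLimits _
  haveI h2 : PreservesFiniteLimits (Scheme.Modules.restrictFunctor j) := inferInstance
  exact comp_preservesFiniteLimits _ _

theorem preservesFiniteLimits_gammaZ : PreservesFiniteLimits (DCoh.gammaZ j) := by
  haveI := preservesFiniteLimits_pp j
  rw [(DCoh.gammaZ j).preservesFiniteLimits_iff_forall_exact_map_and_mono]
  intro S hS
  haveI := hS.mono_f
  have hm : Mono ((DCoh.gammaZ j).map S.f) := by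
    refine ⟨fun {Z} a b e => ?_⟩
    haveI : Mono ((gammaι j).app S.X₁) :=
      inferInstanceAs (Mono (kernel.ι ((Scheme.Modules.restrictAdjunction j).unit.app S.X₁)))
    apply (cancel_mono ((gammaι j).app S.X₁)).1
    apply (cancel_mono S.f).1
    have hn := (gammaι j).naturality S.f
    dsimp only [Functor.id_map, Functor.id_obj] at hn
    rw [Category.assoc, Category.assoc, ← hn, reassoc_of% e]
  refine ⟨?_, hm⟩
  haveI : Mono (S.map (DCoh.gammaZ j)).f := hm
  suffices key : ∀ {W : Y.Modules} (t : W ⟶ (DCoh.gammaZ j).obj S.X₂),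
      t ≫ (DCoh.gammaZ j).map S.g = 0 → { l : W ⟶ (DCoh.gammaZ j).obj S.X₁ // l ≫ (DCoh.gammaZ j).map S.f = t } from
    ShortComplex.exact_of_f_is_kernel _ (KernelFork.IsLimit.ofι' _ _ fun {W} t ht => key t ht)
  intro W t ht
  have hn := (gammaι j).naturality S.g
  dsimp only [Functor.id_map, Functor.id_obj] at hn
  have h0 : (t ≫ (gammaι j).app S.X₂) ≫ S.g = 0 := by
    rw [Category.assoc, ← hn, reassoc_of% ht, zero_comp]
  let s := hS.exact.lift (t ≫ (gammaι j).app S.X₂) h0
  have hs : s ≫ S.f = t ≫ (gammaι j).app S.X₂ := hS.exact.lift_f _ h0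
  have hu : s ≫ (Scheme.Modules.restrictAdjunction j).unit.app S.X₁ = 0 := by
    haveI : Mono ((pp j).map S.f) := inferInstance
    apply (cancel_mono ((pp j).map S.f)).1
    have hun := (Scheme.Modules.restrictAdjunction j).unit.naturality S.f
    dsimp only [Functor.id_map, Functor.id_obj] at hun
    rw [Category.assoc, ← hun, reassoc_of% hs, seq_zero, comp_zero, zero_comp]
  refine ⟨kernel.lift _ s hu, ?_⟩
  haveI : Mono ((gammaι j).app S.X₂) :=
    inferInstanceAs (Mono (kernel.ι ((Scheme.Modules.restrictAdjunction j).unit.app S.X₂)))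
  apply (cancel_mono ((gammaι j).app S.X₂)).1
  have hnf := (gammaι j).naturality S.f
  dsimp only [Functor.id_map, Functor.id_obj] at hnf
  rw [Category.assoc, hnf, ← Category.assoc]
  exact (congrArg (· ≫ S.f) (kernel.lift_ι _ _ _)).trans hs

/-- `Rⁿ(j_* j^*)(M)` as the homology of a pushed resolution of `M|_U`. -/
def ppDerivedIso [HasInjectiveResolutions Y.Modules] {M : Y.Modules} (I : InjectiveResolution M) (q : ℕ) :
    ((pp j).rightDerived q).obj M ≅
      (((ModRes.ofInj I).restrict j).pushSC j ((ComplexShape.up ℕ).prev q) q).homology :=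
  I.isoRightDerivedObj (pp j) q ≪≫
    ShortComplex.homologyMapIso ((((pp j).mapHomologicalComplex (ComplexShape.up ℕ)).obj I.cocomplex).isoSc' _ q
      (q + 1) rfl (CochainComplex.next ℕ q))

theorem isQCoh_pp_derived [QuasiCompact j] [HasInjectiveResolutions Y.Modules] {M : Y.Modules}
    (hM : Coh.IsQCoh M) (q : ℕ) : Coh.IsQCoh (((pp j).rightDerived q).obj M) :=
  M1.isQCoh_of_isIso (ppDerivedIso j (injectiveResolution M) q).symm
    (isQCoh_homology_pushSC _ j (M1.isQCoh_restrict hM j) rfl)

theorem isQCoh_HZshM [QuasiCompact j] [HasInjectiveResolutions Y.Modules] {M : Y.Modules}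
    (hM : Coh.IsQCoh M) (q : ℕ) : Coh.IsQCoh ((LocCohZ.HZshM j q).obj M) := by
  haveI := preservesFiniteLimits_pp j
  have hpp : Coh.IsQCoh ((pp j).obj M) :=
    M1.isQCoh_of_isIso ((pp j).rightDerivedZeroIsoSelf.app M) (isQCoh_pp_derived j hM 0)
  rcases q with _ | q
  · haveI := preservesFiniteLimits_gammaZ j
    exact M1.isQCoh_of_isIso ((DCoh.gammaZ j).rightDerivedZeroIsoSelf.app M).symm
      (M1.isQCoh_kernel hM hpp _)
  rcases q with _ | q
  · obtain ⟨e⟩ := RDSeq.nonempty_cokernel_iso (gammaι j) (Scheme.Modules.restrictAdjunction j).unit (seq_zero j)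
      (fun I hI => @seq_shortExact _ _ j _ I hI) (fun F => isZero_rightDerived_id F 0)
    exact M1.isQCoh_of_isIso ((e.app M) ≪≫ PreservesCokernel.iso ((evaluation _ _).obj M) _).symm
      (M1.isQCoh_cokernel hM hpp _)
  · have := RDSeq.isIso_delta (gammaι j) (Scheme.Modules.restrictAdjunction j).unit (seq_zero j)
      (fun I hI => @seq_shortExact _ _ j _ I hI) (q + 1)
      (fun F => isZero_rightDerived_id F q) (fun F => isZero_rightDerived_id F (q + 1))
    exact M1.isQCoh_of_isIso ((@asIso _ _ _ _ _ this).app M) (isQCoh_pp_derived j hM (q + 1))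

end Groth.Agent.LocCohZQ
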