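import Groth.Prelude.Def_LocCohZ
import Groth.Agent.Lib.ExtDerived.Basic

/-!
Sections with support in the complement of an open subset.
-/

set_option autoImplicit false

universe u

open CategoryTheory CategoryTheory.Limits Opposite TopologicalSpace

namespace Groth.Agent.LocCohZ

variable {X : TopCat.{u}} (U : Opens X)

/-- The unit `F ⟶ j_* j⁻¹ F`. -/
noncomputable abbrev η (F : CohTop.Ab X) :
    F ⟶ (CohTop.push (CohCx.incl U)).obj ((CohTop.pull (CohCx.incl U)).obj F) :=
  (TopCat.Sheaf.pullbackPushforwardAdjunction AddCommGrpCat.{u} (CohCx.incl U)).unit.app F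

theorem range_incl : Set.range (CohCx.incl U) = U := Subtype.range_coe

theorem isOpenEmbedding_incl : Topology.IsOpenEmbedding (CohCx.incl U) :=
  U.isOpen.isOpenEmbedding_subtypeVal

theorem functor_map_obj (V : Opens X) :
    (isOpenEmbedding_incl U).functor.obj ((Opens.map (CohCx.incl U)).obj V) = V ⊓ U := by
  ext : 1
  exact (Set.image_preimage_eq_inter_range).trans (congrArg (fun T => (V : Set X) ∩ T) (range_incl U))

theorem map_η_eq (V : Opens X) :
    (Opens.map (CohCx.incl U)).obj (V ⊓ U) = (Opens.map (CohCx.incl U)).obj V := by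
  ext x
  exact ⟨fun h => h.1, fun h => ⟨h, x.2⟩⟩

/-- A section maps to zero in `j_* j⁻¹ F` iff it vanishes on `U`. -/
theorem η_app_eq_zero_iff (F : CohTop.Ab X) (V : Opens X) (s : F.obj.obj (op V)) :
    ((η U F).hom.app (op V)).hom s = 0 ↔ (F.obj.map (homOfLE (inf_le_left : V ⊓ U ≤ V)).op).hom s = 0 := by
  constructor
  · intro h
    have := (isOpenEmbedding_incl U).functor_isContinuous
    let H : CohTop.Ab (TopCat.of U) :=
      ((isOpenEmbedding_incl U).functor.sheafPushforwardContinuous AddCommGrpCat.{u}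
        (Opens.grothendieckTopology _) (Opens.grothendieckTopology _)).obj F
    let ρ : F ⟶ (CohTop.push (CohCx.incl U)).obj H := ObjectProperty.homMk
      { app := fun W => F.obj.map (homOfLE ((functor_map_obj U W.unop).le.trans inf_le_left)).op
        naturality := fun W W' g => by
          exact (F.obj.map_comp _ _).symm.trans
            ((congrArg F.obj.map (Subsingleton.elim _ _)).trans (F.obj.map_comp _ _)) }
    have hρ : (ρ.hom.app (op V)).hom s = 0 := by
      have e : η U F ≫ (CohTop.push (CohCx.incl U)).map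
          (((TopCat.Sheaf.pullbackPushforwardAdjunction AddCommGrpCat.{u} (CohCx.incl U)).homEquiv F H).symm ρ) = ρ :=
        ((TopCat.Sheaf.pullbackPushforwardAdjunction AddCommGrpCat.{u} (CohCx.incl U)).homEquiv_unit
          _ _ _).symm.trans (Equiv.apply_symm_apply _ ρ)
      have key : ∀ {G : CohTop.Ab X} (ψ : (CohTop.push (CohCx.incl U)).obj
          ((CohTop.pull (CohCx.incl U)).obj F) ⟶ G), ((η U F ≫ ψ).hom.app (op V)).hom s = 0 :=
        fun {G} ψ => show (ψ.hom.app (op V)).hom (((η U F).hom.app (op V)).hom s) = 0 by rw [h, map_zero]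
      rw [← e]
      exact key _
    have e : (homOfLE (inf_le_left : V ⊓ U ≤ V)).op =
        (homOfLE ((functor_map_obj U V).le.trans inf_le_left)).op ≫
          (homOfLE (functor_map_obj U V).ge).op := Subsingleton.elim _ _
    rw [e, F.obj.map_comp]
    change (F.obj.map _).hom ((ρ.hom.app (op V)).hom s) = 0
    rw [hρ]
    exact map_zero _
  · intro h
    have nat := ConcreteCategory.congr_hom
      ((η U F).hom.naturality (homOfLE (inf_le_left : V ⊓ U ≤ V)).op) s
    have h' : (((CohTop.push (CohCx.incl U)).obj ((CohTop.pull (CohCx.incl U)).obj F)).obj.map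
        (homOfLE (inf_le_left : V ⊓ U ≤ V)).op).hom (((η U F).hom.app (op V)).hom s) = 0 :=
      nat.symm.trans (show ((η U F).hom.app (op (V ⊓ U))).hom
        ((F.obj.map (homOfLE (inf_le_left : V ⊓ U ≤ V)).op).hom s) = 0 by rw [h, map_zero])
    have hinv : IsIso (((CohTop.pull (CohCx.incl U)).obj F).obj.map
        ((Opens.map (CohCx.incl U)).map (homOfLE (inf_le_left : V ⊓ U ≤ V))).op) := by
      have : IsIso ((Opens.map (CohCx.incl U)).map (homOfLE (inf_le_left : V ⊓ U ≤ V))) :=
        ⟨homOfLE (map_η_eq U V).ge, Subsingleton.elim _ _, Subsingleton.elim _ _⟩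
      infer_instance
    exact (ConcreteCategory.bijective_of_isIso (((CohTop.pull (CohCx.incl U)).obj F).obj.map
        ((Opens.map (CohCx.incl U)).map (homOfLE (inf_le_left : V ⊓ U ≤ V))).op)).1
      (h'.trans (map_zero _).symm)

theorem restr_le (V : Opens X) (hV : V ≤ U) (F : CohTop.Ab X) (s : F.obj.obj (op V)) :
    (F.obj.map (homOfLE (inf_le_left : V ⊓ U ≤ V)).op).hom s = 0 ↔ s = 0 := by
  refine ⟨fun h => ?_, fun h => by rw [h, map_zero]⟩
  have : IsIso (homOfLE (inf_le_left : V ⊓ U ≤ V)) :=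
    ⟨homOfLE (le_inf le_rfl hV), Subsingleton.elim _ _, Subsingleton.elim _ _⟩
  exact (ConcreteCategory.bijective_of_isIso (F.obj.map (homOfLE (inf_le_left : V ⊓ U ≤ V)).op)).1
    (h.trans (map_zero _).symm)

/-- Maps `ℤ_V ⟶ F` killed by the unit are those vanishing on `V ⊓ U`. -/
theorem comp_η_eq_zero_iff (F : CohTop.Ab X) (V : Opens X)
    (φ : CohCx.freeSheaf (Opens.grothendieckTopology X) V ⟶ F) :
    φ ≫ η U F = 0 ↔
      CohCx.freeSheafMap (Opens.grothendieckTopology X) (homOfLE (inf_le_left : V ⊓ U ≤ V)) ≫ φ = 0 := by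
  let J := Opens.grothendieckTopology X
  rw [← (CohFree.homEquivSect J V _).map_eq_zero_iff, CohFree.homEquivSect_apply,
    ← (CohFree.homEquivSect J (V ⊓ U) _).map_eq_zero_iff, CohFree.homEquivSect_apply,
    CohFree.evalGen_freeSheafMap_comp]
  exact η_app_eq_zero_iff U F V (CohFree.evalGen J V F φ)

theorem top_inf_map_eq_zero_iff (F : CohTop.Ab X)
    (φ : CohCx.freeSheaf (Opens.grothendieckTopology X) (⊤ : Opens X) ⟶ F) :
    φ ≫ η U F = 0 ↔
      CohCx.freeSheafMap (Opens.grothendieckTopology X) (homOfLE (le_top : U ≤ ⊤)) ≫ φ = 0 := by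
  rw [comp_η_eq_zero_iff]
  have key : ∀ {A B : Opens X} (h : A ≤ B) (hB : B ≤ ⊤) (hA : A ≤ ⊤),
      CohCx.freeSheafMap (Opens.grothendieckTopology X) (homOfLE hB) ≫ φ = 0 →
      CohCx.freeSheafMap (Opens.grothendieckTopology X) (homOfLE hA) ≫ φ = 0 := by
    intro A B h hB hA hz
    rw [show homOfLE hA = homOfLE h ≫ homOfLE hB from Subsingleton.elim _ _,
      CohFree.freeSheafMap_comp, Category.assoc, hz, comp_zero]
  exact ⟨key (le_inf le_top le_rfl) _ _, key inf_le_right _ _⟩

theorem freeSheafMap_comp_ι (F : CohTop.Ab X)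
    (φ : CohCx.freeSheaf (Opens.grothendieckTopology X) (⊤ : Opens X) ⟶ kernel (η U F)) :
    CohCx.freeSheafMap (Opens.grothendieckTopology X) (homOfLE (le_top : U ≤ ⊤)) ≫
      φ ≫ kernel.ι (η U F) = 0 :=
  (top_inf_map_eq_zero_iff U F _).1 (by rw [Category.assoc, kernel.condition, comp_zero])

theorem π_comp_η (F : CohTop.Ab X) (ψ : _root_.LocCohZ.zq (le_top : U ≤ ⊤) ⟶ F) :
    (cokernel.π (CohCx.freeSheafMap (Opens.grothendieckTopology X) (homOfLE (le_top : U ≤ ⊤))) ≫ ψ) ≫
      η U F = 0 :=
  (top_inf_map_eq_zero_iff U F _).2 (by rw [cokernel.condition_assoc, zero_comp])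

/-- `Γ_Z(X, -) = Hom(ℤ_Z, -)`. -/
noncomputable def sectSuppCompIso :
    LocCohZ.sectSuppF U ⋙ preadditiveCoyoneda.obj
        (op (CohCx.freeSheaf (Opens.grothendieckTopology X) (⊤ : Opens X))) ≅
      preadditiveCoyoneda.obj (op (_root_.LocCohZ.zq (le_top : U ≤ ⊤))) :=
  NatIso.ofComponents
    (fun F => AddEquiv.toAddCommGrpIso
      { toFun := fun φ => cokernel.desc _ (φ ≫ kernel.ι (η U F))
          (freeSheafMap_comp_ι U F φ)
        invFun := fun ψ => kernel.lift (η U F) (cokernel.π _ ≫ ψ)
          (π_comp_η U F ψ)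
        left_inv := fun φ => by
          apply (cancel_mono (kernel.ι (η U F))).1
          exact (kernel.lift_ι _ _ _).trans (cokernel.π_desc _ _ _)
        right_inv := fun ψ => by
          apply (cancel_epi (cokernel.π _)).1
          exact (cokernel.π_desc _ _ _).trans (kernel.lift_ι _ _ _)
        map_add' := fun φ φ' => by
          apply (cancel_epi (cokernel.π _)).1
          refine (cokernel.π_desc _ _ _).trans ?_
          erw [Preadditive.add_comp, Preadditive.comp_add, cokernel.π_desc, cokernel.π_desc] })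
    (fun {F G} f => by
      ext φ
      apply (cancel_epi (cokernel.π _)).1
      refine (cokernel.π_desc _ _ _).trans ?_
      refine (Category.assoc _ _ _).trans ((congrArg (φ ≫ ·) (kernel.lift_ι _ _ _)).trans ?_)
      refine Eq.symm ((Category.assoc _ _ _).symm.trans ?_)
      exact (congrArg (· ≫ f) (cokernel.π_desc _ _ _)).trans (Category.assoc _ _ _))

end Groth.Agent.LocCohZ
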