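import Groth.Agent.Lib.LocCohZ.Restr
import Groth.Agent.Lib.LocCohZ.Support
import Groth.Agent.Lib.CohFound.Flasque
import Groth.Agent.Lib.CohFound.DimShift
import Groth.Agent.Lib.ExtDerived.Natural
import Groth.Agent.Lib.RDSeq.Basic

/-!
`ℋ^{i+1}_Z = Rⁱj_* j⁻¹` for `i ≥ 1`, and `ℋ^1_Z` is the cokernel of `F ⟶ j_* j⁻¹ F`.
-/

set_option autoImplicit false

universe u

open CategoryTheory CategoryTheory.Limits Opposite TopologicalSpace Topology

namespace Groth.Agent.LocCohZ

variable {X : TopCat.{u}} (U : Opens X)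

theorem isContinuous_map {A B : TopCat.{u}} (f : A ⟶ B) :
    (Opens.map f).IsContinuous (Opens.grothendieckTopology B) (Opens.grothendieckTopology A) :=
  inferInstance

/-- Restriction is left adjoint to direct image. -/
noncomputable def restrAdj : CohTop.restrFunctor U ⊣ CohTop.push (CohCx.incl U) :=
  @Adjunction.sheafPushforwardContinuous _ _ _ _ _ _ _ _ (isOpenEmbedding_incl U).isOpenMap.adjunction
    (Opens.grothendieckTopology (TopCat.of U)) (Opens.grothendieckTopology X)
    (isOpenEmbedding_incl U).functor_isContinuous (isContinuous_map (CohCx.incl U))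

/-- `j⁻¹` is restriction. -/
noncomputable def pullIso : CohTop.pull (CohCx.incl U) ≅ CohTop.restrFunctor U :=
  (TopCat.Sheaf.pullbackPushforwardAdjunction AddCommGrpCat.{u} (CohCx.incl U)).leftAdjointUniq (restrAdj U)

theorem restrAdj_unit_surjective (F : CohTop.Ab X) [TopCat.Sheaf.IsFlasque F] (V : Opens X) :
    Function.Surjective ((((restrAdj U).unit.app F).hom.app (op V)).hom) := by
  have h : Epi (F.obj.map ((isOpenEmbedding_incl U).isOpenMap.adjunction.counit.app V).op) :=
    TopCat.Presheaf.IsFlasque.epi _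
  exact (AddCommGrpCat.epi_iff_surjective _).1 h

theorem epi_η (F : CohTop.Ab X) [TopCat.Sheaf.IsFlasque F] : Epi (η U F) := by
  have h : Epi ((restrAdj U).unit.app F) := CohFound.epi_of_locally_lift _ fun V s x hx => by
    obtain ⟨t, ht⟩ := restrAdj_unit_surjective U F V s
    refine ⟨V, le_rfl, hx, t, ht.trans ?_⟩
    rw [show (homOfLE (le_refl V)).op = 𝟙 (op V) from rfl, CategoryTheory.Functor.map_id]
    rfl
  have e := Adjunction.unit_leftAdjointUniq_hom_app
    (TopCat.Sheaf.pullbackPushforwardAdjunction AddCommGrpCat.{u} (CohCx.incl U)) (restrAdj U) F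
  have e' : η U F = (restrAdj U).unit.app F ≫ (CohTop.push (CohCx.incl U)).map ((pullIso U).inv.app F) := by
    rw [← e]
    refine Eq.trans ?_ (Category.assoc _ _ _).symm
    refine (Category.comp_id _).symm.trans (congrArg (η U F ≫ ·) ?_)
    refine Eq.trans ?_ ((CohTop.push (CohCx.incl U)).map_comp _ _)
    exact ((CategoryTheory.Functor.map_id _ _).symm.trans (congrArg _ ((pullIso U).hom_inv_id_app F).symm))
  rw [e']
  infer_instance

instance additive_push : (CohTop.push (CohCx.incl U)).Additive := {}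

/-- The adjunction `j⁻¹ ⊣ j_*`. -/
noncomputable def pullAdj : CohTop.pull (CohCx.incl U) ⊣ CohTop.push (CohCx.incl U) :=
  TopCat.Sheaf.pullbackPushforwardAdjunction AddCommGrpCat.{u} (CohCx.incl U)

instance additive_pull : (CohTop.pull (CohCx.incl U)).Additive :=
  @Adjunction.left_adjoint_additive _ _ _ _ _ _ _ _ (pullAdj U) (additive_push U)

instance additive_pullPush : (CohTop.pull (CohCx.incl U) ⋙ CohTop.push (CohCx.incl U)).Additive :=
  inferInstance

theorem preservesFiniteLimits_pullPush :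
    PreservesFiniteLimits (CohTop.pull (CohCx.incl U) ⋙ CohTop.push (CohCx.incl U)) :=
  haveI : PreservesFiniteLimits (CohTop.restrFunctor U) :=
    ((Functor.exact_tfae (CohTop.restrFunctor U)).out 2 3 (a := Functor.PreservesHomology (CohTop.restrFunctor U))
      (b := PreservesFiniteLimits (CohTop.restrFunctor U) ∧ PreservesFiniteColimits (CohTop.restrFunctor U))).1
      (preservesHomology_restr U) |>.1
  haveI : PreservesFiniteLimits (CohTop.push (CohCx.incl U)) :=
    haveI : PreservesLimitsOfSize.{0, 0} (CohTop.push (CohCx.incl U)) :=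
      (restrAdj U).rightAdjoint_preservesLimits
    inferInstance
  haveI : PreservesFiniteLimits (CohTop.pull (CohCx.incl U)) :=
    preservesFiniteLimits_of_natIso (pullIso U).symm
  comp_preservesFiniteLimits _ _

/-- The unit `𝟭 ⟶ j_* j⁻¹`. -/
noncomputable def ηNat : 𝟭 (CohTop.Ab X) ⟶ CohTop.pull (CohCx.incl U) ⋙ CohTop.push (CohCx.incl U) :=
  (TopCat.Sheaf.pullbackPushforwardAdjunction AddCommGrpCat.{u} (CohCx.incl U)).unit

/-- The inclusion `Γ_Z ⟶ 𝟭`. -/
noncomputable def suppι : _root_.LocCohZ.sectSuppF U ⟶ 𝟭 (CohTop.Ab X) where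
  app F := kernel.ι (η U F)
  naturality _ _ f := kernel.lift_ι _ _ _

theorem isZero_rightDerived_id (F : CohTop.Ab X) (i : ℕ) :
    IsZero (((𝟭 (CohTop.Ab X)).rightDerived (i + 1)).obj F) := by
  let R := injectiveResolution F
  refine IsZero.of_iso ?_ (R.isoRightDerivedObj _ (i + 1))
  exact (R.cocomplex_exactAt_succ i).isZero_homology.of_iso (Iso.refl _)

theorem seq_zero (F : CohTop.Ab X) : (suppι U).app F ≫ (ηNat U).app F = 0 :=
  kernel.condition _

theorem seq_shortExact (I : CohTop.Ab X) [Injective I] :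
    (ShortComplex.mk _ _ (seq_zero U I)).ShortExact where
  exact := ShortComplex.exact_kernel _
  mono_f := inferInstanceAs (Mono (kernel.ι (η U I)))
  epi_g :=
    haveI := CohFound.isFlasque_of_injective I
    epi_η U I

theorem nonempty_HZsh_one_iso : Nonempty (_root_.LocCohZ.HZsh U 1 ≅
    cokernel (TopCat.Sheaf.pullbackPushforwardAdjunction AddCommGrpCat.{u} (CohCx.incl U)).unit) :=
  haveI := preservesFiniteLimits_pullPush U
  RDSeq.nonempty_cokernel_iso (suppι U) (ηNat U) (seq_zero U) (fun I hI => @seq_shortExact _ U I hI)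
    (fun F => isZero_rightDerived_id F 0)

theorem nonempty_HZsh_succ_iso (i : ℕ) (hi : 1 ≤ i) :
    Nonempty (_root_.LocCohZ.HZsh U (i + 1) ≅
      CohTop.pull (CohCx.incl U) ⋙ CohTop.Rpush (CohCx.incl U) i) := by
  obtain ⟨m, rfl⟩ : ∃ m, i = m + 1 := ⟨i - 1, by omega⟩
  have := RDSeq.isIso_delta (suppι U) (ηNat U) (seq_zero U)
    (fun I hI => @seq_shortExact _ U I hI) (m + 1)
    (fun F => isZero_rightDerived_id F m) (fun F => isZero_rightDerived_id F (m + 1))
  let e : CohTop.pull (CohCx.incl U) ⋙ CohTop.push (CohCx.incl U) ≅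
      CohTop.restrFunctor U ⋙ CohTop.push (CohCx.incl U) :=
    Functor.isoWhiskerRight (pullIso U) _
  exact ⟨(@asIso _ _ _ _ _ this).symm ≪≫ ExtDerived.rightDerivedMapIso (m + 1) e ≪≫
    RDComp.rightDerivedCompIso (CohTop.restrFunctor U) (CohTop.push (CohCx.incl U)) (m + 1) ≪≫
    Functor.isoWhiskerRight (pullIso U).symm _⟩

end Groth.Agent.LocCohZ
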