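import Groth.Agent.Lib.LocCohZ.DepthGlobal
import Groth.Agent.Lib.LocCohZ.OpenSeq
import Groth.Agent.Lib.RFPlus.DerivedZero
import Mathlib.RingTheory.KrullDimension.Regular

/-!
# Vanishing of local cohomology sheaves above the dimension
-/

set_option autoImplicit false
set_option backward.isDefEq.respectTransparency false
set_option maxHeartbeats 400000

universe u

open CategoryTheory CategoryTheory.Limits AlgebraicGeometry Opposite TopologicalSpace Pointwise

noncomputable section

namespace Groth.Agent.LocCohZQ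

open Groth.Agent.M1

theorem lt_natCast_of_add_one_le {a b : WithBot ℕ∞} {k : ℕ} (hab : a + 1 ≤ b)
    (hb : b < ((k + 1 : ℕ) : WithBot ℕ∞)) : a < (k : WithBot ℕ∞) := by
  have h := lt_of_le_of_lt hab hb
  cases a with
  | bot => exact WithBot.bot_lt_coe _
  | coe a =>
    cases a with
    | top => exact absurd h (by rintro h'; exact not_lt_of_ge le_top (WithBot.coe_lt_coe.1 h'))
    | coe a =>
      rw [Nat.cast_add, Nat.cast_one] at h
      have h' : (((a + 1 : ℕ) : ℕ∞) : WithBot ℕ∞) < (((k + 1 : ℕ) : ℕ∞) : WithBot ℕ∞) := by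
        push_cast; exact h
      have h'' : a + 1 < k + 1 := by exact_mod_cast h'
      exact_mod_cast (Nat.lt_of_succ_lt_succ h'')

variable {X : Scheme.{u}} (U : X.Opens)

/-- Higher local cohomology of a sheaf which is zero on `U` vanishes. -/
theorem isZero_HZsh_of_null {Y : TopCat.{u}} (V : Opens Y) (F : CohTop.Ab Y)
    (hF : IsZero ((CohTop.restrFunctor V).obj F)) (q : ℕ) (hq : 0 < q) :
    IsZero ((_root_.LocCohZ.HZsh V q).obj F) := by
  have hp : IsZero ((CohTop.pull (CohCx.incl V)).obj F) := hF.of_iso ((LocCohZ.pullIso V).app F)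
  obtain ⟨m, rfl⟩ : ∃ m, q = m + 1 := ⟨q - 1, by omega⟩
  rcases m with _ | m
  · obtain ⟨e⟩ := LocCohZ.nonempty_HZsh_one_iso V
    refine IsZero.of_iso ?_ ((e.app F) ≪≫ PreservesCokernel.iso ((evaluation _ _).obj F) _)
    have hz : IsZero ((CohTop.push (CohCx.incl V)).obj ((CohTop.pull (CohCx.incl V)).obj F)) :=
      (CohTop.push (CohCx.incl V)).map_isZero hp
    exact isZero_cokernel_of_epi_of hz
  · obtain ⟨e⟩ := LocCohZ.nonempty_HZsh_succ_iso V (m + 1) (Nat.succ_pos m)
    haveI := RFPlus.rightDerived_additive (CohTop.push (CohCx.incl V)) (m + 1)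
    exact ((CohTop.Rpush (CohCx.incl V) (m + 1)).map_isZero hp).of_iso (e.app F)
where
  isZero_cokernel_of_epi_of {A B : CohTop.Ab Y} {f : A ⟶ B} (hB : IsZero B) : IsZero (cokernel f) :=
    haveI : Epi f := ⟨fun g h _ => hB.eq_of_src g h⟩
    isZero_cokernel_of_epi f

theorem isZero_restr_gamma (M : X.Modules) :
    IsZero ((CohTop.restrFunctor (X := X.carrier) U).obj (Coh.toAb ((DCoh.gammaZ U.ι).obj M))) := by
  rw [IsZero.iff_id_eq_zero]
  refine ObjectProperty.hom_ext _ (NatTrans.ext (funext fun V => AddCommGrpCat.hom_ext (AddMonoidHom.ext fun s => ?_)))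
  let V' : X.Opens := (LocCohZ.isOpenEmbedding_incl (X := X.carrier) U).isOpenMap.functor.obj V.unop
  have hle : V' ≤ V' ⊓ U := le_inf le_rfl (by
    rintro x ⟨y, -, rfl⟩
    exact y.2)
  change (s : Γ((DCoh.gammaZ U.ι).obj M, V')) = 0
  apply gammaι_injective U M V'
  rw [map_zero]
  have h := congrArg (mres M hle) (gammaι_vanish U M V' s)
  rw [map_zero, mres_mres, mres_id] at h
  exact h

section Affine

variable [IsAffine X] [IsNoetherianRing Γ(X, ⊤)] [IsLocallyNoetherian X]

omit [IsNoetherianRing Γ(X, ⊤)] [IsAffine X] in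
theorem supportDim_stalk_le_of_epi {M N : X.Modules} (π : M ⟶ N) [Epi π] (x : X) :
    Module.supportDim (X.presheaf.stalk x) (N.presheaf.stalk x) ≤
      Module.supportDim (X.presheaf.stalk x) (M.presheaf.stalk x) :=
  Module.supportDim_le_of_surjective (RefHull.stalkMapₗ π x : M.presheaf.stalk x →ₗ[X.presheaf.stalk x] _)
    ((epi_iff_stalk π).1 inferInstance x)

omit [IsNoetherianRing Γ(X, ⊤)] [IsAffine X] in
theorem supportDim_stalk_coker (M : X.Modules) (hM : Coh.IsCoh M) (f : Γ(X, ⊤)) (x : X)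
    (hreg : IsSMulRegular (M.presheaf.stalk x) (X.presheaf.germ ⊤ x trivial f)) :
    Module.supportDim (X.presheaf.stalk x) ((cokernel ((smulC f).app M)).presheaf.stalk x) + 1 ≤
      Module.supportDim (X.presheaf.stalk x) (M.presheaf.stalk x) := by
  haveI : Module.Finite (X.presheaf.stalk x) (M.presheaf.stalk x) := finite_stalk hM.1 hM.2 x
  let r : X.presheaf.stalk x := X.presheaf.germ ⊤ x trivial f
  let π := cokernel.π ((smulC f).app M)
  let πx : M.presheaf.stalk x →ₗ[X.presheaf.stalk x] (cokernel ((smulC f).app M)).presheaf.stalk x :=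
    RefHull.stalkMapₗ π x
  have hs : Function.Surjective πx := (epi_iff_stalk π).1 inferInstance x
  have hk : r • (⊤ : Submodule (X.presheaf.stalk x) (M.presheaf.stalk x)) ≤ LinearMap.ker πx := by
    intro a ha
    obtain ⟨b, -, rfl⟩ := (Submodule.mem_smul_pointwise_iff_exists _ _ _).1 ha
    refine Eq.trans (congrArg ((stalkAb x).map π) (stalk_smulC f M x b).symm) ?_
    refine (stalk_comp_apply ((smulC f).app M) π x b).symm.trans ?_
    rw [cokernel.condition]
    exact stalkAb_map_zero x b
  refine le_trans (add_le_add (Module.supportDim_le_of_surjective ((r • (⊤ : Submodule (X.presheaf.stalk x) (M.presheaf.stalk x))).liftQ πx hk)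
    (fun c => by obtain ⟨a, rfl⟩ := hs c; exact ⟨Submodule.Quotient.mk a, rfl⟩)) le_rfl) ?_
  exact Module.supportDim_quotSMulTop_succ_le_of_notMem_minimalPrimes fun _ => hreg.notMem_of_mem_minimalPrimes

/-- Vanishing above the dimension on an affine scheme. -/
theorem isZero_of_dim_lt_affine [QuasiCompact U.ι] [HasInjectiveResolutions X.Modules] (i : ℕ) :
    ∀ (M : X.Modules), Coh.IsCoh M →
      (∀ x : X, x ∉ U → Module.supportDim (X.presheaf.stalk x) (M.presheaf.stalk x) < (i : WithBot ℕ∞)) →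
      IsZero ((_root_.LocCohZ.HZshM U.ι i).obj M) := by
  haveI : PreservesFiniteLimits (DCoh.gammaZ U.ι) := preservesFiniteLimits_gammaZ U.ι
  induction i with
  | zero =>
    intro M hM hd
    refine IsZero.of_iso ?_ ((DCoh.gammaZ U.ι).rightDerivedZeroIsoSelf.app M)
    rw [IsZero.iff_id_eq_zero]
    ext V s
    change (s : Γ((DCoh.gammaZ U.ι).obj M, V)) = 0
    apply gammaι_injective U M V
    rw [map_zero]
    refine section_ext _ _ fun y hy => ?_
    rw [map_zero]
    by_cases hyU : y ∈ U
    · have h := congrArg (M.presheaf.germ (V ⊓ U) y ⟨hy, hyU⟩) (gammaι_vanish U M V s)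
      rw [germ_mres, map_zero] at h
      exact h
    · have hbot : Module.supportDim (X.presheaf.stalk y) (M.presheaf.stalk y) = ⊥ := by
        have h := hd y hyU
        generalize Module.supportDim (X.presheaf.stalk y) (M.presheaf.stalk y) = a at h ⊢
        cases a with
        | bot => rfl
        | coe a => exact absurd h (not_lt_of_ge (WithBot.coe_le_coe.2 zero_le'))
      haveI := (Module.supportDim_eq_bot_iff_subsingleton (X.presheaf.stalk y) (M.presheaf.stalk y)).1 hbot
      exact Subsingleton.elim (α := M.presheaf.stalk y) _ _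
  | succ i ih =>
    intro M hM hd
    haveI := hM.1
    let T := (DCoh.gammaZ U.ι).obj M
    haveI := mono_gammaι U M
    have hTq : Coh.IsQCoh T := isQCoh_kernel hM.1 (isQCoh_push U.ι (isQCoh_restrict hM.1 U.ι)) _
    have hT : ∀ q, 0 < q → IsZero ((_root_.LocCohZ.HZshM U.ι q).obj T) := fun q hq =>
      (isZero_HZshM_iff U T q).2 (isZero_HZsh_of_null (Y := X.carrier) U _ (isZero_restr_gamma U M) q hq)
    let S : ShortComplex X.Modules :=
      ShortComplex.mk ((gammaι U.ι).app M) (cokernel.π ((gammaι U.ι).app M)) (cokernel.condition _)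
    have hS : S.ShortExact :=
      { exact := ShortComplex.exact_cokernel _, mono_f := inferInstance, epi_g := inferInstance }
    let M' := cokernel ((gammaι U.ι).app M)
    have hM' : Coh.IsCoh M' := isCoh_cokernel hTq hM _
    haveI := hM'.1
    obtain ⟨T₀⟩ := RDerLES.exists_sesRes hS
    have hg0 : (DCoh.gammaZ U.ι).map (cokernel.π ((gammaι U.ι).app M)) = 0 := by
      haveI := mono_gammaι U M'
      apply (cancel_mono ((gammaι U.ι).app M')).1
      refine ((gammaι U.ι).naturality (cokernel.π ((gammaι U.ι).app M))).trans ?_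
      rw [zero_comp]
      exact cokernel.condition _
    have hM'0 : IsZero ((DCoh.gammaZ U.ι).obj M') := by
      have hR0 : ((DCoh.gammaZ U.ι).rightDerived 0).map S.g = 0 := by
        apply (cancel_mono ((DCoh.gammaZ U.ι).rightDerivedZeroIsoSelf.hom.app M')).1
        refine ((DCoh.gammaZ U.ι).rightDerivedZeroIsoSelf.hom.naturality _).trans ?_
        rw [zero_comp]
        exact (congrArg (_ ≫ ·) hg0).trans comp_zero
      obtain ⟨w, he⟩ := (RDerLES.exact_sequences (DCoh.gammaZ U.ι) T₀ 0 1 rfl).2.1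
      exact (he.isZero_of_both_zeros hR0 ((hT 1 Nat.one_pos).eq_of_tgt _ _)).of_iso
        ((DCoh.gammaZ U.ι).rightDerivedZeroIsoSelf.app M').symm
    obtain ⟨f, hf, hreg⟩ := exists_regular U M' hM' (one_le_depth_of_gamma U M' hM' hM'0)
    have hC := ih _ (isCoh_cokernel hM'.1 hM' ((smulC f).app M')) fun x hx =>
      lt_natCast_of_add_one_le
        ((supportDim_stalk_coker M' hM' f x (stalk_regular M' hreg x)).trans
          (supportDim_stalk_le_of_epi (cokernel.π ((gammaι U.ι).app M)) x))
        (hd x hx)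
    have hmono : Mono ((_root_.LocCohZ.HZshM U.ι (i + 1)).map ((smulC f).app M')) := by
      obtain ⟨T₁⟩ := RDerLES.exists_sesRes (smulSeq_shortExact M' f (mono_smulC M' hreg))
      obtain ⟨w, he⟩ := (RDerLES.exact_sequences (DCoh.gammaZ U.ι) T₁ i (i + 1) rfl).2.2
      exact he.mono_g (hC.eq_of_src _ _)
    have h' := isZero_of_mono_smul U M' hM'.1 hf (i + 1) hmono
    have he := (RDerLES.exact_sequences (DCoh.gammaZ U.ι) T₀ (i + 1) (i + 2) rfl).1
    exact he.isZero_of_both_zeros ((hT (i + 1) i.succ_pos).eq_of_src _ _) (h'.eq_of_tgt _ _)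

end Affine

/-- `ℋ^i_Z(M) = 0` when the local rings along `Z` have dimension below `i`. -/
theorem isZero_of_dim_lt [IsLocallyNoetherian X] (M : X.Modules) (hM : Coh.IsCoh M) (i : ℕ)
    (hi : ∀ x : X, x ∉ (U : Set X) → ringKrullDim (X.presheaf.stalk x) < (i : WithBot ℕ∞)) :
    IsZero ((_root_.LocCohZ.HZsh (X := X.carrier) U i).obj (Coh.toAb M)) := by
  refine (isZero_HZshM_iff U M i).1 ?_
  refine isZero_of_cover _ (fun W : X.affineOpens => W.1) (fun x => ?_) fun W => ?_
  · obtain ⟨W, hW, hxW, -⟩ := exists_isAffineOpen_mem_and_subset (U := (⊤ : X.Opens)) (x := x) trivial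
    exact ⟨⟨W, hW⟩, hxW⟩
  · haveI : IsAffine W.1 := W.2
    haveI : IsNoetherianRing Γ((W.1 : Scheme.{u}), ⊤) :=
      IsLocallyNoetherian.component_noetherian ⟨⊤, isAffineOpen_top _⟩
    obtain ⟨e⟩ := nonempty_HZshM_restrict U W.1.ι i
    refine (isZero_of_dim_lt_affine (W.1.ι ⁻¹ᵁ U) i _ (DPerf.isCoh_restrict hM W.1.ι) fun y hy => ?_).of_iso (e.app M)
    refine lt_of_le_of_lt (Module.supportDim_le_ringKrullDim _ _) ?_
    rw [← ringKrullDim_eq_of_ringEquiv (asIso (W.1.ι.stalkMap y)).commRingCatIsoToRingEquiv]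
    exact hi y.1 hy

end Groth.Agent.LocCohZQ
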