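import Groth.Agent.Lib.LocCohZ.DepthVanish
import Groth.Agent.Lib.DPerf.Noeth
import Groth.Agent.Lib.ModM1.Extend

/-!
# Vanishing of local cohomology sheaves and depth on locally noetherian schemes
-/

set_option autoImplicit false
set_option backward.isDefEq.respectTransparency false
set_option maxHeartbeats 400000

universe u

open CategoryTheory CategoryTheory.Limits AlgebraicGeometry Opposite TopologicalSpace

noncomputable section

namespace Groth.Agent.LocCohZQ

open Groth.Agent.M1

variable {X : Scheme.{u}} [IsLocallyNoetherian X]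

/-- `ℋ^i_Z(M) = 0` for `i < n` iff the depth is at least `n` along `Z`. -/
theorem vanish_iff_depth (U : X.Opens) (M : X.Modules) (hM : Coh.IsCoh M) (n : ℕ) :
    (∀ i : ℕ, i < n → IsZero ((_root_.LocCohZ.HZsh (X := X.carrier) U i).obj (Coh.toAb M))) ↔
      ∀ x : X, x ∉ (U : Set X) → (n : ℕ∞) ≤ LocCoh.depth (X.presheaf.stalk x) (M.presheaf.stalk x) := by
  have hloc : ∀ (W : X.Opens), IsAffineOpen W →
      ((∀ i : ℕ, i < n → IsZero ((Scheme.Modules.restrictFunctor W.ι).obj ((_root_.LocCohZ.HZshM U.ι i).obj M))) ↔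
        ∀ x : X, x ∈ W → x ∉ U → (n : ℕ∞) ≤ LocCoh.depth (X.presheaf.stalk x) (M.presheaf.stalk x)) := by
    intro W hW
    haveI : IsAffine W := hW
    haveI : IsNoetherianRing Γ((W : Scheme.{u}), ⊤) :=
      IsLocallyNoetherian.component_noetherian ⟨⊤, isAffineOpen_top _⟩
    haveI : HasInjectiveResolutions (W : Scheme.{u}).Modules := inferInstance
    have h := vanish_iff_depth_affine (W.ι ⁻¹ᵁ U) n (M.restrict W.ι) (DPerf.isCoh_restrict hM W.ι)
    have hiso : ∀ i, Nonempty ((Scheme.Modules.restrictFunctor W.ι).obj ((_root_.LocCohZ.HZshM U.ι i).obj M) ≅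
        (_root_.LocCohZ.HZshM (W.ι ⁻¹ᵁ U).ι i).obj (M.restrict W.ι)) := fun i =>
      (nonempty_HZshM_restrict U W.ι i).map fun e => e.app M
    constructor
    · intro hz x hxW hx
      have h' := (h.1 fun i hi => (hz i hi).of_iso (hiso i).some.symm) (⟨x, hxW⟩ : (W : Scheme.{u})) hx
      rw [← depth_restrict M W] at h'
      exact h'
    · intro hd i hi
      refine ((h.2 fun y hy => ?_) i hi).of_iso (hiso i).some
      rw [← depth_restrict M W]
      exact hd y.1 y.2 hy
  constructor
  · intro hz x hx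
    obtain ⟨W, hW, hxW, -⟩ := exists_isAffineOpen_mem_and_subset (U := (⊤ : X.Opens)) (x := x) trivial
    exact (hloc W hW).1 (fun i hi =>
      (Scheme.Modules.restrictFunctor W.ι).map_isZero ((isZero_HZshM_iff U M i).2 (hz i hi))) x hxW hx
  · intro hd i hi
    refine (isZero_HZshM_iff U M i).1 ?_
    refine isZero_of_cover _ (fun W : X.affineOpens => W.1) (fun x => ?_) fun W =>
      (hloc W.1 W.2).2 (fun x _ hx => hd x hx) i hi
    obtain ⟨W, hW, hxW, -⟩ := exists_isAffineOpen_mem_and_subset (U := (⊤ : X.Opens)) (x := x) trivial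
    exact ⟨⟨W, hW⟩, hxW⟩

/-- Bijective restrictions of sections force depth two along `Z`. -/
theorem two_le_depth_of_bijective (U : X.Opens) (M : X.Modules) (hM : Coh.IsCoh M)
    (h : ∀ V : X.Opens, Function.Bijective (mres M (inf_le_left : V ⊓ U ≤ V))) (x : X) (hx : x ∉ (U : Set X)) :
    (2 : ℕ∞) ≤ LocCoh.depth (X.presheaf.stalk x) (M.presheaf.stalk x) := by
  let η := (Scheme.Modules.restrictAdjunction U.ι).unit.app M
  have hη : ∀ V : X.Opens, Function.Bijective (η.app V) := by
    intro V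
    have e : U.ι ''ᵁ (U.ι ⁻¹ᵁ V) = V ⊓ U := by
      rw [Scheme.Hom.image_preimage_eq_opensRange_inf, Scheme.Opens.opensRange_ι, inf_comm]
    have h2 : Function.Bijective (mres M e.le : Γ(M, V ⊓ U) → Γ(M, U.ι ''ᵁ (U.ι ⁻¹ᵁ V))) := by
      refine Function.bijective_iff_has_inverse.2 ⟨mres M e.ge, fun t => ?_, fun t => ?_⟩
      · rw [mres_mres, mres_id]
      · rw [mres_mres, mres_id]
    have h3 : ∀ s, η.app V s = mres M e.le (mres M (inf_le_left : V ⊓ U ≤ V) s) := fun s => by
      rw [mres_mres]; rfl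
    exact ⟨fun a b hab => (h V).1 (h2.1 ((h3 a).symm.trans (hab.trans (h3 b)))),
      fun t => by
        obtain ⟨t', rfl⟩ := h2.2 t
        obtain ⟨s, rfl⟩ := (h V).2 t'
        exact ⟨s, h3 s⟩⟩
  haveI : Mono η := (mono_iff_app _).2 fun V => (hη V).1
  haveI : Epi η := (epi_iff_locally_surjective _).2 fun V t y hy => by
    obtain ⟨s, hs⟩ := (hη V).2 t
    exact ⟨V, le_rfl, hy, s, hs.trans (mres_id _ le_rfl t).symm⟩
  refine (vanish_iff_depth U M hM 2).1 (fun i hi => (isZero_HZshM_iff U M i).1 ?_) x hx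
  haveI : PreservesFiniteLimits (DCoh.gammaZ U.ι) := preservesFiniteLimits_gammaZ U.ι
  haveI := preservesFiniteLimits_pp U.ι
  interval_cases i
  · refine IsZero.of_iso ?_ ((DCoh.gammaZ U.ι).rightDerivedZeroIsoSelf.app M)
    exact (isZero_kernel_of_mono η)
  · obtain ⟨e⟩ := RDSeq.nonempty_cokernel_iso (gammaι U.ι) (Scheme.Modules.restrictAdjunction U.ι).unit
      (seq_zero U.ι) (fun I hI => @seq_shortExact _ _ U.ι _ I hI) (fun F => isZero_rightDerived_id F 0)
    exact (isZero_cokernel_of_epi η).of_iso ((e.app M) ≪≫ PreservesCokernel.iso ((evaluation _ _).obj M) _)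

end Groth.Agent.LocCohZQ
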