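import Groth.Agent.Lib.LocCohZ.Sections
import Groth.Agent.Lib.CohFound.Bridge
import Groth.Agent.Lib.RFPlus.Acyclic

/-!
Vanishing of local cohomology sheaves versus cohomology with supports over all open subsets.
-/

set_option autoImplicit false

universe u

open CategoryTheory CategoryTheory.Limits CategoryTheory.Abelian Opposite TopologicalSpace

namespace Groth.Agent.LocCohZ

variable {X : TopCat.{u}} (U : Opens X)

local notation "J" => Opens.grothendieckTopology X
local notation "Γz" => _root_.LocCohZ.sectSuppF U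

/-- `ℤ_V/ℤ_{V ∩ U}`. -/
noncomputable abbrev zV (V : Opens X) : CohTop.Ab X :=
  _root_.LocCohZ.zq (inf_le_left : V ⊓ U ≤ V)

/-- Restriction `ℤ_W/ℤ_{W ∩ U} ⟶ ℤ_V/ℤ_{V ∩ U}`. -/
noncomputable abbrev zr {W V : Opens X} (h : W ≤ V) : zV U W ⟶ zV U V :=
  _root_.LocCohZ.zqMap inf_le_left inf_le_left (inf_le_inf_right U h) h

theorem π_zr {W V : Opens X} (h : W ≤ V) :
    cokernel.π (CohCx.freeSheafMap J (homOfLE (inf_le_left : W ⊓ U ≤ W))) ≫ zr U h =
      CohCx.freeSheafMap J (homOfLE h) ≫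
        cokernel.π (CohCx.freeSheafMap J (homOfLE (inf_le_left : V ⊓ U ≤ V))) :=
  cokernel.π_desc _ _ _

/-- The section of `Γ_Z F` over `V` of a map `ℤ_V/ℤ_{V ∩ U} ⟶ F`. -/
noncomputable def toSupp {V : Opens X} {F : CohTop.Ab X} (y : zV U V ⟶ F) :
    CohCx.freeSheaf J V ⟶ (Γz).obj F :=
  kernel.lift (η U F) (cokernel.π _ ≫ y) (π_inf_comp_η U F V y)

/-- The inverse of `toSupp`. -/
noncomputable def fromSupp {V : Opens X} {F : CohTop.Ab X}
    (φ : CohCx.freeSheaf J V ⟶ (Γz).obj F) : zV U V ⟶ F :=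
  cokernel.desc _ (φ ≫ kernel.ι (η U F)) (freeSheafMap_inf_comp_ι U F V φ)

theorem toSupp_ι {V : Opens X} {F : CohTop.Ab X} (y : zV U V ⟶ F) :
    toSupp U y ≫ kernel.ι (η U F) = cokernel.π _ ≫ y :=
  kernel.lift_ι _ _ _

theorem map_ι {F G : CohTop.Ab X} (g : F ⟶ G) :
    (Γz).map g ≫ kernel.ι (η U G) = kernel.ι (η U F) ≫ g :=
  kernel.lift_ι _ _ _

theorem toSupp_inj {V : Opens X} {F : CohTop.Ab X} {y y' : zV U V ⟶ F}
    (h : toSupp U y = toSupp U y') : y = y' := by
  apply (cancel_epi (cokernel.π _)).1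
  rw [← toSupp_ι, ← toSupp_ι, h]

theorem toSupp_fromSupp {V : Opens X} {F : CohTop.Ab X}
    (φ : CohCx.freeSheaf J V ⟶ (Γz).obj F) : toSupp U (fromSupp U φ) = φ := by
  apply (cancel_mono (kernel.ι (η U F))).1
  exact (toSupp_ι U _).trans (cokernel.π_desc _ _ _)

theorem toSupp_comp {V : Opens X} {F G : CohTop.Ab X} (y : zV U V ⟶ F) (g : F ⟶ G) :
    toSupp U (y ≫ g) = toSupp U y ≫ (Γz).map g := by
  apply (cancel_mono (kernel.ι (η U G))).1
  refine (toSupp_ι U _).trans ?_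
  refine Eq.symm ((Category.assoc _ _ _).trans ((congrArg (toSupp U y ≫ ·) (map_ι U g)).trans ?_))
  exact (Category.assoc _ _ _).symm.trans ((congrArg (· ≫ g) (toSupp_ι U y)).trans (Category.assoc _ _ _))

theorem toSupp_zr {W V : Opens X} (h : W ≤ V) {F : CohTop.Ab X} (y : zV U V ⟶ F) :
    toSupp U (zr U h ≫ y) = CohCx.freeSheafMap J (homOfLE h) ≫ toSupp U y := by
  apply (cancel_mono (kernel.ι (η U F))).1
  refine (toSupp_ι U _).trans ?_
  rw [← Category.assoc, π_zr, Category.assoc]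
  exact Eq.symm ((Category.assoc _ _ _).trans (congrArg (CohCx.freeSheafMap J (homOfLE h) ≫ ·) (toSupp_ι U y)))

/-- `Γ_Z` is left exact. -/
instance preservesFiniteLimits_sectSuppF : PreservesFiniteLimits (Γz) := by
  rw [(Γz).preservesFiniteLimits_iff_forall_exact_map_and_mono]
  intro S hS
  have := hS.mono_f
  constructor
  · refine exact_of_coyoneda_exact _ fun V => ?_
    have e := ((Functor.preservesFiniteLimits_iff_forall_exact_map_and_mono
      (preadditiveCoyoneda.obj (op (zV U V)))).1 inferInstance S hS).1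
    exact ShortComplex.exact_of_iso (S.mapNatIso (sectSuppSectionsIso U V)).symm e
  · exact ⟨fun {Z} a b e => (cancel_mono (kernel.ι (η U S.X₁))).1 ((cancel_mono S.f).1 (by
      rw [Category.assoc, Category.assoc]
      exact (congrArg (a ≫ ·) (map_ι U S.f).symm).trans (Eq.trans
        ((Category.assoc _ _ _).symm.trans ((congrArg (· ≫ kernel.ι (η U S.X₂)) e).trans (Category.assoc _ _ _)))
        (congrArg (b ≫ ·) (map_ι U S.f)))))⟩

/-- A map out of `ℤ_V` vanishing locally is zero. -/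
theorem eq_zero_of_locally {V : Opens X} {K : CohTop.Ab X} (φ : CohCx.freeSheaf J V ⟶ K)
    (h : ∀ x ∈ V, ∃ (W : Opens X) (hW : W ≤ V),
      x ∈ W ∧ CohCx.freeSheafMap J (homOfLE hW) ≫ φ = 0) : φ = 0 := by
  choose W hW hx hz using h
  apply (CohFree.homEquivSect J V K).injective
  rw [map_zero, CohFree.homEquivSect_apply]
  refine TopCat.Sheaf.eq_of_locally_eq' (F := (K : TopCat.Sheaf AddCommGrpCat.{u} X))
    (fun p : V => W p.1 p.2) V (fun p => homOfLE (hW p.1 p.2)) ?_ _ _ fun p => ?_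
  · intro x hxV
    exact Opens.mem_iSup.2 ⟨⟨x, hxV⟩, hx x hxV⟩
  · refine Eq.trans ?_ (map_zero _).symm
    exact (CohFree.evalGen_freeSheafMap_comp J (homOfLE (hW p.1 p.2)) K φ).symm.trans
      (by rw [hz, map_zero])

theorem isFlasque_of_isZero (F : CohTop.Ab X) (h : IsZero F) : TopCat.Sheaf.IsFlasque F :=
  CohFound.isFlasque_mk F fun A B _ t => ⟨0, by
    rw [map_zero, ← CohFree.evalGen_ofSect J B F t, h.eq_of_tgt (CohFree.ofSect J B F t) 0, map_zero]⟩

/-- A quotient of a flasque sheaf by a flasque subsheaf is flasque. -/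
theorem isFlasque_X₃ {S : ShortComplex (CohTop.Ab X)} (hS : S.ShortExact)
    (h₁ : TopCat.Sheaf.IsFlasque S.X₁) (h₂ : TopCat.Sheaf.IsFlasque S.X₂) :
    TopCat.Sheaf.IsFlasque S.X₃ :=
  TopCat.Sheaf.IsFlasque.of_shortExact_of_isFlasque₁₂ hS

/-- The class `x` over `V` is locally zero. -/
def LocallyZero {F : CohTop.Ab X} {n : ℕ} {V : Opens X} (x : Ext.{u} (zV U V) F n) : Prop :=
  ∀ p ∈ V, ∃ (W : Opens X) (hW : W ≤ V),
    p ∈ W ∧ (Ext.mk₀ (zr U hW)).comp x (zero_add n) = 0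

/-- Local cohomology classes in degree one. -/
theorem eq_zero_one (F : CohTop.Ab X) [TopCat.Sheaf.IsFlasque ((Γz).obj F)] (V : Opens X)
    (x : Ext.{u} (zV U V) F 1)
    (h : IsZero ((_root_.LocCohZ.HZsh U 1).obj F) ∨ LocallyZero U x) : x = 0 := by
  let hS := CohFound.injSC_shortExact F
  obtain ⟨y, rfl⟩ := Ext.covariant_sequence_exact₁ (zV U V) hS x
    (Ext.eq_zero_of_injective _) (n₀ := 0) (by omega)
  obtain ⟨y, rfl⟩ := (Ext.mk₀_bijective _ _).2 y
  let g' := (Γz).map (CohFound.injSC F).g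
  have hy : toSupp U y ≫ cokernel.π g' = 0 := by
    rcases h with h | h
    · letI := HasDerivedCategory.standard (CohTop.Ab X)
      have he := (RFPlus.shortExact_map_of_isZero (Γz) (CohFound.injSC F) hS h).epi_g
      have : Epi g' := he
      rw [cokernel.π_of_epi g', comp_zero]
    · refine eq_zero_of_locally _ fun p hp => ?_
      obtain ⟨W, hW, hpW, hz⟩ := h p hp
      refine ⟨W, hW, hpW, ?_⟩
      rw [← Ext.comp_assoc _ _ _ (zero_add 0) (zero_add 1) (by omega), Ext.mk₀_comp_mk₀] at hz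
      obtain ⟨z, hz'⟩ := Ext.covariant_sequence_exact₃ (zV U W) hS (Ext.mk₀ (zr U hW ≫ y)) rfl hz
      obtain ⟨z, rfl⟩ := (Ext.mk₀_bijective _ _).2 z
      rw [Ext.mk₀_comp_mk₀] at hz'
      have e := (Ext.mk₀_bijective _ _).1 hz'
      have e' : CohCx.freeSheafMap J (homOfLE hW) ≫ toSupp U y = toSupp U z ≫ g' := by
        rw [← toSupp_zr, ← e, toSupp_comp]
      rw [← Category.assoc]
      exact (congrArg (· ≫ cokernel.π g') e').trans (by rw [Category.assoc, cokernel.condition, comp_zero])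
  let T := ShortComplex.mk ((Γz).map (CohFound.injSC F).f) (Abelian.factorThruImage g')
    ((cancel_mono (Abelian.image.ι g')).1 (by
      rw [Category.assoc, Abelian.image.fac, zero_comp, ← Functor.map_comp, ShortComplex.zero,
        Functor.map_zero]))
  let S' : ShortComplex (CohTop.Ab X) := (CohFound.injSC F).map (Γz)
  have hS' := (Γz).preservesFiniteLimits_iff_forall_exact_map_and_mono.1 inferInstance _ hS
  let φ : T ⟶ S' :=
    { τ₁ := 𝟙 _
      τ₂ := 𝟙 _
      τ₃ := Abelian.image.ι g'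
      comm₁₂ := (Category.id_comp _).trans (Category.comp_id _).symm
      comm₂₃ := (Category.id_comp _).trans (Abelian.image.fac g').symm }
  have : Epi φ.τ₁ := inferInstanceAs (Epi (𝟙 _))
  have : IsIso φ.τ₂ := inferInstanceAs (IsIso (𝟙 _))
  have : Mono φ.τ₃ := inferInstanceAs (Mono (Abelian.image.ι g'))
  have hT : T.ShortExact :=
    { exact := (ShortComplex.exact_iff_of_epi_of_isIso_of_mono φ).2 hS'.1
      mono_f := hS'.2
      epi_g := inferInstanceAs (Epi (Abelian.factorThruImage g')) }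
  have : TopCat.Sheaf.IsFlasque T.X₁ := inferInstanceAs (TopCat.Sheaf.IsFlasque ((Γz).obj F))
  obtain ⟨t, ht⟩ := CohFound.surjective_app_of_flasque hT V
    (CohFree.evalGen J V (Abelian.image g') (kernel.lift (cokernel.π g') (toSupp U y) hy))
  let z : CohCx.freeSheaf J V ⟶ T.X₂ := CohFree.ofSect J V T.X₂ t
  have e : z ≫ Abelian.factorThruImage g' = kernel.lift (cokernel.π g') (toSupp U y) hy := by
    apply (CohFree.homEquivSect J V _).injective
    refine Eq.trans ?_ ht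
    exact congrArg (T.g.hom.app (op V)).hom (CohFree.evalGen_ofSect J V T.X₂ t)
  have e' : y = fromSupp U z ≫ (CohFound.injSC F).g := by
    apply toSupp_inj U
    rw [toSupp_comp, toSupp_fromSupp]
    have e2 := congrArg (· ≫ Abelian.image.ι g') e
    simp only [Category.assoc, Abelian.image.fac] at e2
    exact ((kernel.lift_ι _ _ _).symm.trans e2.symm)
  rw [e', ← Ext.mk₀_comp_mk₀, Ext.comp_assoc _ _ _ (zero_add 0) (zero_add 1) (by omega),
    hS.comp_extClass, Ext.comp_zero]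

/-- If `Γ_Z F` is flasque and `ℋ^i_Z F = 0` for `1 ≤ i ≤ n`, a class in `H^{n+1}_Z(V, F)` vanishes
as soon as it vanishes locally, or `ℋ^{n+1}_Z F = 0`. -/
theorem eq_zero_of (n : ℕ) : ∀ (F : CohTop.Ab X), TopCat.Sheaf.IsFlasque ((Γz).obj F) →
    (∀ i, 1 ≤ i → i ≤ n → IsZero ((_root_.LocCohZ.HZsh U i).obj F)) →
    ∀ (V : Opens X) (x : Ext.{u} (zV U V) F (n + 1)),
      IsZero ((_root_.LocCohZ.HZsh U (n + 1)).obj F) ∨ LocallyZero U x → x = 0 := by
  induction n with
  | zero => intro F hF _ V x h; exact eq_zero_one U F V x h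
  | succ n ih =>
    intro F hF hv V x h
    let hS := CohFound.injSC_shortExact F
    letI := HasDerivedCategory.standard (CohTop.Ab X)
    have hS' := RFPlus.shortExact_map_of_isZero (Γz) (CohFound.injSC F) hS (hv 1 le_rfl (by omega))
    have hI : ∀ i, 0 < i → IsZero ((_root_.LocCohZ.HZsh U i).obj (CohFound.injSC F).X₂) := fun i hi => by
      obtain ⟨m, rfl⟩ : ∃ m, i = m + 1 := ⟨i - 1, by omega⟩
      exact Functor.isZero_rightDerived_obj_injective_succ _ m (Injective.under F)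
    have hQ : ∀ i, 1 ≤ i → IsZero ((_root_.LocCohZ.HZsh U (i + 1)).obj F) →
        IsZero ((_root_.LocCohZ.HZsh U i).obj (CohFound.injSC F).X₃) := fun i hi hz =>
      RFPlus.isZero_rightDerived_X₃ (Γz) (CohFound.injSC F) hS i (hI i hi) hz
    obtain ⟨y, rfl⟩ := Ext.covariant_sequence_exact₁ (zV U V) hS x
      (Ext.eq_zero_of_injective _) (n₀ := n + 1) (by omega)
    have hy : y = 0 := by
      refine ih _ (isFlasque_X₃ hS' hF ?_) (fun i h1 h2 => hQ i h1 (hv _ (by omega) (by omega))) V y ?_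
      · have := CohFound.isFlasque_of_injective (Injective.under F)
        exact isFlasque_sectSupp U _
      rcases h with h | h
      · exact Or.inl (hQ _ (by omega) h)
      · refine Or.inr fun p hp => ?_
        obtain ⟨W, hW, hpW, hz⟩ := h p hp
        refine ⟨W, hW, hpW, ?_⟩
        rw [← Ext.comp_assoc _ _ _ (zero_add (n + 1)) rfl (by omega)] at hz
        obtain ⟨z, hz'⟩ := Ext.covariant_sequence_exact₃ (zV U W) hS _ rfl hz
        rw [← hz', Ext.eq_zero_of_injective z, Ext.zero_comp]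
    rw [hy, Ext.zero_comp]

theorem subsingleton_HZ_zero (F : CohTop.Ab X) (h : IsZero ((Γz).obj F)) (V : Opens X) :
    Subsingleton (Ext.{u} (zV U V) F 0) :=
  haveI : Subsingleton (zV U V ⟶ F) := ⟨fun a b => toSupp_inj U (h.eq_of_tgt _ _)⟩
  Ext.addEquiv₀.toEquiv.subsingleton

theorem isZero_sectSupp (F : CohTop.Ab X) (h : IsZero ((_root_.LocCohZ.HZsh U 0).obj F)) :
    IsZero ((Γz).obj F) :=
  h.of_iso ((Γz).rightDerivedZeroIsoSelf.app F).symm

/-- If `ℋ^i_Z F = 0` for `i < n`, then `H^i_Z(V, F) = 0` for `i < n`. -/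
theorem subsingleton_HZ_of_isZero_HZsh (F : CohTop.Ab X) (n : ℕ)
    (h : ∀ i, i < n → IsZero ((_root_.LocCohZ.HZsh U i).obj F)) (V : Opens X) (i : ℕ) (hi : i < n) :
    Subsingleton (Ext.{u} (zV U V) F i) := by
  have h0 := isZero_sectSupp U F (h 0 (by omega))
  cases i with
  | zero => exact subsingleton_HZ_zero U F h0 V
  | succ m => exact subsingleton_of_forall_eq 0 fun x =>
      eq_zero_of U m F (isFlasque_of_isZero _ h0) (fun j _ hj => h j (by omega)) V x (Or.inl (h _ hi))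

section General

variable {C : Type*} [Category C] [Abelian C] [HasExt.{u} C]

theorem mk₀_comp_injective_of_epi {A B F : C} (g : A ⟶ B) [Epi g] (x : Ext.{u} B F 0)
    (hx : (Ext.mk₀ g).comp x (zero_add 0) = 0) : x = 0 := by
  obtain ⟨y, rfl⟩ := (Ext.mk₀_bijective _ _).2 x
  rw [Ext.mk₀_comp_mk₀, Ext.mk₀_eq_zero_iff] at hx
  rw [Ext.mk₀_eq_zero_iff]
  exact (cancel_epi g).1 (hx.trans comp_zero.symm)

theorem mk₀_f_comp_g_comp (S : ShortComplex C) {F : C} {n : ℕ} (x : Ext.{u} S.X₃ F n) :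
    (Ext.mk₀ S.f).comp ((Ext.mk₀ S.g).comp x (zero_add n)) (zero_add n) = 0 := by
  rw [Ext.mk₀_comp_mk₀_assoc, S.zero, Ext.mk₀_zero, Ext.zero_comp]

theorem comp_eq_zero_of_subsingleton {A B F : C} (a : Ext.{u} A B 0) {n : ℕ} (x : Ext.{u} B F n)
    (h : Subsingleton (Ext.{u} B F n)) : a.comp x (zero_add n) = 0 := by
  rw [Subsingleton.elim x 0, Ext.comp_zero]

theorem comp_comm_sq {A A' B B' F : C} {a : A ⟶ A'} {g : A ⟶ B} {g' : A' ⟶ B'} {b : B ⟶ B'}
    (e : g ≫ b = a ≫ g') {n : ℕ} (x : Ext.{u} B' F n) :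
    (Ext.mk₀ g).comp ((Ext.mk₀ b).comp x (zero_add n)) (zero_add n) =
      (Ext.mk₀ a).comp ((Ext.mk₀ g').comp x (zero_add n)) (zero_add n) := by
  rw [Ext.mk₀_comp_mk₀_assoc, Ext.mk₀_comp_mk₀_assoc, e]

end General

section Sequence

variable (F : CohTop.Ab X)


theorem rs_eq (i : ℕ) (V : Opens X) (x : CohFound.Hc F i V) :
    CohFound.rs F i (inf_le_left : V ⊓ U ≤ V) x =
      (Ext.mk₀ (_root_.LocCohZ.zqSeq (inf_le_left : V ⊓ U ≤ V)).f).comp x (zero_add i) := rfl

theorem rs_injective (i : ℕ) (V : Opens X) (h : Subsingleton (Ext.{u} (zV U V) F i)) :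
    Function.Injective (CohFound.rs F i (inf_le_left : V ⊓ U ≤ V)) := by
  refine (injective_iff_map_eq_zero _).2 fun x hx => ?_
  obtain ⟨z, rfl⟩ := Ext.contravariant_sequence_exact₂
    (_root_.LocCohZ.zqSeq_shortExact (inf_le_left : V ⊓ U ≤ V)) F x hx
  exact comp_eq_zero_of_subsingleton _ z h

theorem rs_surjective (i : ℕ) (V : Opens X) (h : Subsingleton (Ext.{u} (zV U V) F (i + 1))) :
    Function.Surjective (CohFound.rs F i (inf_le_left : V ⊓ U ≤ V)) := fun y => by
  obtain ⟨x, hx⟩ := Ext.contravariant_sequence_exact₁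
    (_root_.LocCohZ.zqSeq_shortExact (inf_le_left : V ⊓ U ≤ V)) F y (Nat.add_comm 1 i)
    (@Subsingleton.elim _ h _ _)
  exact ⟨x, hx⟩

theorem π_comp_injective_zero (V : Opens X) (x : Ext.{u} (zV U V) F 0)
    (hx : (Ext.mk₀ (_root_.LocCohZ.zqSeq (inf_le_left : V ⊓ U ≤ V)).g).comp x (zero_add 0) = 0) :
    x = 0 := by
  exact @mk₀_comp_injective_of_epi _ _ _ _ _ _ _ _
    (_root_.LocCohZ.zqSeq_shortExact (inf_le_left : V ⊓ U ≤ V)).epi_g x hx

theorem π_comp_injective (i : ℕ) (V : Opens X)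
    (h : ∀ j, j + 1 = i → Function.Surjective (CohFound.rs F j (inf_le_left : V ⊓ U ≤ V)))
    (x : Ext.{u} (zV U V) F i)
    (hx : (Ext.mk₀ (_root_.LocCohZ.zqSeq (inf_le_left : V ⊓ U ≤ V)).g).comp x (zero_add i) = 0) :
    x = 0 := by
  cases i with
  | zero => exact π_comp_injective_zero U F V x hx
  | succ j =>
    have hS := _root_.LocCohZ.zqSeq_shortExact (inf_le_left : V ⊓ U ≤ V)
    obtain ⟨y, rfl⟩ := Ext.contravariant_sequence_exact₃ hS F x hx (Nat.add_comm 1 j)
    obtain ⟨z, rfl⟩ := h j rfl y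
    rw [rs_eq]
    exact hS.extClass_comp_assoc _

theorem subsingleton_HZ_of_rs (i : ℕ) (V : Opens X)
    (h : ∀ j, j + 1 = i → Function.Surjective (CohFound.rs F j (inf_le_left : V ⊓ U ≤ V)))
    (h' : Function.Injective (CohFound.rs F i (inf_le_left : V ⊓ U ≤ V))) :
    Subsingleton (Ext.{u} (zV U V) F i) :=
  subsingleton_of_forall_eq 0 fun x => π_comp_injective U F i V h x (h' (by
    refine Eq.trans ?_ (map_zero (CohFound.rs F i (inf_le_left : V ⊓ U ≤ V))).symm
    exact mk₀_f_comp_g_comp (_root_.LocCohZ.zqSeq (inf_le_left : V ⊓ U ≤ V)) x))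

theorem locallyZero_of_surjective (j : ℕ)
    (h : ∀ V : Opens X, Function.Surjective (CohFound.rs F j (inf_le_left : V ⊓ U ≤ V)))
    (V : Opens X) (x : Ext.{u} (zV U V) F (j + 1)) : LocallyZero U x := fun p hp => by
  obtain ⟨W, hW, hpW, hz⟩ := CohFound.exists_cover_rs_eq_zero F V j
    ((Ext.mk₀ (_root_.LocCohZ.zqSeq (inf_le_left : V ⊓ U ≤ V)).g).comp x (zero_add (j + 1))) p hp
  refine ⟨W, hW, hpW, π_comp_injective U F (j + 1) W (fun k hk => ?_) _ ?_⟩
  · obtain rfl : k = j := by omega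
    exact h W
  · refine Eq.trans ?_ hz
    exact comp_comm_sq (π_zr U hW) x

theorem res_injective_iff (i : ℕ) (V : Opens X) :
    Function.Injective (CohTop.res F i (inf_le_left : V ⊓ U ≤ V)) ↔
      Function.Injective (CohFound.rs F i (inf_le_left : V ⊓ U ≤ V)) := by
  refine ⟨fun h a b e => ?_, fun h a b e => (CohFound.huExt F i V).injective (h (by
    rw [← CohFound.huExt_res, ← CohFound.huExt_res, e]))⟩
  obtain ⟨a, rfl⟩ := (CohFound.huExt F i V).surjective a
  obtain ⟨b, rfl⟩ := (CohFound.huExt F i V).surjective b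
  rw [← CohFound.huExt_res, ← CohFound.huExt_res] at e
  rw [h ((CohFound.huExt F i _).injective e)]

theorem res_surjective_iff (i : ℕ) (V : Opens X) :
    Function.Surjective (CohTop.res F i (inf_le_left : V ⊓ U ≤ V)) ↔
      Function.Surjective (CohFound.rs F i (inf_le_left : V ⊓ U ≤ V)) := by
  refine ⟨fun h a => ?_, fun h a => ?_⟩
  · obtain ⟨b, hb⟩ := h ((CohFound.huExt F i _).symm a)
    exact ⟨CohFound.huExt F i V b, by rw [← CohFound.huExt_res, hb, AddEquiv.apply_symm_apply]⟩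
  · obtain ⟨b, hb⟩ := h (CohFound.huExt F i _ a)
    exact ⟨(CohFound.huExt F i V).symm b, (CohFound.huExt F i _).injective (by
      rw [CohFound.huExt_res, AddEquiv.apply_symm_apply, hb])⟩

end Sequence

end Groth.Agent.LocCohZ
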