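import Groth.Agent.Lib.LocCohZ.Vanish
import Groth.Agent.Lib.CohFound.DimShift

/-!
Local cohomology sheaves through their sections: `Γ(V, Γ_Z -) = Hom(ℤ_V/ℤ_{V ∩ U}, -)`.
-/

set_option autoImplicit false

universe u

open CategoryTheory CategoryTheory.Limits Opposite TopologicalSpace

namespace Groth.Agent.LocCohZ

variable {X : TopCat.{u}} (U : Opens X)

theorem freeSheafMap_inf_comp_ι (F : CohTop.Ab X) (V : Opens X)
    (φ : CohCx.freeSheaf (Opens.grothendieckTopology X) V ⟶ kernel (η U F)) :
    CohCx.freeSheafMap (Opens.grothendieckTopology X) (homOfLE (inf_le_left : V ⊓ U ≤ V)) ≫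
      φ ≫ kernel.ι (η U F) = 0 :=
  (comp_η_eq_zero_iff U F V _).1 (by rw [Category.assoc, kernel.condition, comp_zero])

theorem π_inf_comp_η (F : CohTop.Ab X) (V : Opens X)
    (ψ : _root_.LocCohZ.zq (inf_le_left : V ⊓ U ≤ V) ⟶ F) :
    (cokernel.π (CohCx.freeSheafMap (Opens.grothendieckTopology X) (homOfLE (inf_le_left : V ⊓ U ≤ V))) ≫ ψ) ≫
      η U F = 0 :=
  (comp_η_eq_zero_iff U F V _).2 (by rw [cokernel.condition_assoc, zero_comp])

/-- `Γ(V, Γ_Z -) = Hom(ℤ_V/ℤ_{V ∩ U}, -)`. -/
noncomputable def sectSuppSectionsIso (V : Opens X) :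
    _root_.LocCohZ.sectSuppF U ⋙
        preadditiveCoyoneda.obj (op (CohCx.freeSheaf (Opens.grothendieckTopology X) V)) ≅
      preadditiveCoyoneda.obj (op (_root_.LocCohZ.zq (inf_le_left : V ⊓ U ≤ V))) :=
  NatIso.ofComponents
    (fun F => AddEquiv.toAddCommGrpIso
      { toFun := fun φ => cokernel.desc _ (φ ≫ kernel.ι (η U F)) (freeSheafMap_inf_comp_ι U F V φ)
        invFun := fun ψ => kernel.lift (η U F) (cokernel.π _ ≫ ψ) (π_inf_comp_η U F V ψ)
        left_inv := fun φ => by
          apply (cancel_mono (kernel.ι (η U F))).1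
          exact (kernel.lift_ι _ _ _).trans (cokernel.π_desc _ _ _)
        right_inv := fun ψ => by
          apply (cancel_epi (cokernel.π _)).1
          exact (cokernel.π_desc _ _ _).trans (kernel.lift_ι _ _ _)
        map_add' := fun φ φ' => by
          apply (cancel_epi (cokernel.π _)).1
          refine (cokernel.π_desc _ _ _).trans ?_
          erw [Preadditive.add_comp, Preadditive.comp_add, cokernel.π_desc, cokernel.π_desc] })
    (fun {F G} f => by
      ext φ
      apply (cancel_epi (cokernel.π _)).1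
      refine (cokernel.π_desc _ _ _).trans ?_
      refine (Category.assoc _ _ _).trans ((congrArg (φ ≫ ·) (kernel.lift_ι _ _ _)).trans ?_)
      refine Eq.symm ((Category.assoc _ _ _).symm.trans ?_)
      exact (congrArg (· ≫ f) (cokernel.π_desc _ _ _)).trans (Category.assoc _ _ _))

/-- Exactness can be tested on sections. -/
theorem exact_of_coyoneda_exact (S : ShortComplex (CohTop.Ab X))
    (h : ∀ V : Opens X, (S.map (preadditiveCoyoneda.obj
      (op (CohCx.freeSheaf (Opens.grothendieckTopology X) V)))).Exact) : S.Exact :=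
  CohFound.exact_of_sections fun V s hs => by
    let J := Opens.grothendieckTopology X
    have hz : CohFree.ofSect J V S.X₂ s ≫ S.g = 0 := by
      apply (CohFree.homEquivSect J V S.X₃).injective
      rw [map_zero]
      exact (congrArg (S.g.hom.app (op V)).hom (CohFree.evalGen_ofSect J V S.X₂ s)).trans hs
    obtain ⟨y, hy⟩ := (ShortComplex.ab_exact_iff _).1 (h V) (CohFree.ofSect J V S.X₂ s) hz
    exact ⟨CohFree.evalGen J V S.X₁ y,
      (congrArg (CohFree.evalGen J V S.X₂) hy).trans (CohFree.evalGen_ofSect J V S.X₂ s)⟩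

/-- `ℋ^q_Z(F) = 0` if `H^q_Z(V, F) = 0` for all `V`. -/
theorem isZero_HZsh_of_subsingleton (F : CohTop.Ab X) (q : ℕ)
    (h : ∀ V : Opens X, Subsingleton (_root_.LocCohZ.HZ F q (inf_le_left : V ⊓ U ≤ V))) :
    IsZero ((_root_.LocCohZ.HZsh U q).obj F) := by
  let R := injectiveResolution F
  refine IsZero.of_iso ?_ (R.isoRightDerivedObj (_root_.LocCohZ.sectSuppF U) q)
  change IsZero (HomologicalComplex.homology
    (((_root_.LocCohZ.sectSuppF U).mapHomologicalComplex _).obj R.cocomplex) q)
  rw [← HomologicalComplex.exactAt_iff_isZero_homology, HomologicalComplex.exactAt_iff]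
  refine exact_of_coyoneda_exact _ fun V => ?_
  let P := _root_.LocCohZ.zq (inf_le_left : V ⊓ U ≤ V)
  have h0 : IsZero (((preadditiveCoyoneda.obj (op P)).rightDerived q).obj F) :=
    haveI : Subsingleton (Abelian.Ext.{u} P F q) := h V
    (AddCommGrpCat.isZero_of_subsingleton _).of_iso (ExtDerived.rightDerivedCoyonedaIso P q F)
  have h1 : (ExtDerived.homCx P R).ExactAt q := by
    rw [HomologicalComplex.exactAt_iff_isZero_homology]
    exact h0.of_iso (R.isoRightDerivedObj _ q).symm
  rw [HomologicalComplex.exactAt_iff] at h1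
  exact ShortComplex.exact_of_iso
    ((HomologicalComplex.shortComplexFunctor _ _ q).mapIso
      (((NatIso.mapHomologicalComplex (sectSuppSectionsIso U V) (ComplexShape.up ℕ)).app R.cocomplex))).symm h1

theorem isZero_HZsh_of_isFlasque (F : CohTop.Ab X) [TopCat.Sheaf.IsFlasque F] (q : ℕ) (hq : 0 < q) :
    IsZero ((_root_.LocCohZ.HZsh U q).obj F) := by
  obtain ⟨m, rfl⟩ : ∃ m, q = m + 1 := ⟨q - 1, by omega⟩
  exact isZero_HZsh_of_subsingleton U F _ fun V => subsingleton_HZ_of_isFlasque F _ m

end Groth.Agent.LocCohZ
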