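import Groth.Agent.Lib.LocCohZ.QCoh
import Groth.Agent.Lib.LocCohZ.Local
import Groth.Agent.Lib.LocCohZ.Sections
import Groth.Agent.Lib.LocCohZ.Support
import Groth.Agent.Lib.RDComp.Acyclic
import Groth.Agent.Lib.RDComp.Post
import Groth.Agent.Lib.ExtDerived.Natural
import Groth.Agent.Lib.ModM1.Coh

/-!
# Local cohomology sheaves of modules: comparison with abelian sheaves and restriction to opens
-/

set_option autoImplicit false
set_option backward.isDefEq.respectTransparency false
set_option maxHeartbeats 400000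

universe u

open CategoryTheory CategoryTheory.Limits AlgebraicGeometry Opposite TopologicalSpace

noncomputable section

namespace Groth.Agent.LocCohZQ

open Groth.Agent.M1

variable {X : Scheme.{u}} (U : X.Opens)

theorem unit_app_eq_zero_iff (M : X.Modules) (V : X.Opens) (s : Γ(M, V)) :
    ((Scheme.Modules.restrictAdjunction U.ι).unit.app M).app V s = 0 ↔
      mres M (inf_le_left : V ⊓ U ≤ V) s = 0 := by
  have e : U.ι ''ᵁ (U.ι ⁻¹ᵁ V) = V ⊓ U := by
    rw [Scheme.Hom.image_preimage_eq_opensRange_inf, Scheme.Opens.opensRange_ι, inf_comm]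
  change mres M (U.ι.image_preimage_le V) s = 0 ↔ _
  constructor
  · intro h
    rw [← mres_mres M (U.ι.image_preimage_le V) e.ge, h, map_zero]
  · intro h
    rw [← mres_mres M (inf_le_left : V ⊓ U ≤ V) e.le, h, map_zero]

theorem mono_gammaι (M : X.Modules) : Mono ((gammaι U.ι).app M) :=
  inferInstanceAs (Mono (kernel.ι ((Scheme.Modules.restrictAdjunction U.ι).unit.app M)))

theorem gammaι_injective (M : X.Modules) (V : X.Opens) :
    Function.Injective (((gammaι U.ι).app M).app V) :=
  haveI := mono_gammaι U M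
  app_injective _ V

theorem gammaι_vanish (M : X.Modules) (V : X.Opens) (s : Γ((DCoh.gammaZ U.ι).obj M, V)) :
    mres M (inf_le_left : V ⊓ U ≤ V) (((gammaι U.ι).app M).app V s) = 0 :=
  (unit_app_eq_zero_iff U M V _).1 (congrArg (fun f : (DCoh.gammaZ U.ι).obj M ⟶ _ => f.app V s) (seq_zero U.ι M))

theorem exists_gamma_preimage (M : X.Modules) (V : X.Opens) (x : Γ(M, V))
    (h : mres M (inf_le_left : V ⊓ U ≤ V) x = 0) :
    ∃ y : Γ((DCoh.gammaZ U.ι).obj M, V), ((gammaι U.ι).app M).app V y = x := by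
  let S : ShortComplex X.Modules := ShortComplex.mk ((gammaι U.ι).app M)
    ((Scheme.Modules.restrictAdjunction U.ι).unit.app M) (seq_zero U.ι M)
  haveI : Mono S.f := mono_gammaι U M
  exact sections_exact (S := S) (ShortComplex.exact_kernel _) V x ((unit_app_eq_zero_iff U M V x).2 h)

/-- A map landing in the sections vanishing on `U`. -/
def gammaLift {P M : X.Modules} (ψ : P ⟶ M)
    (h : ∀ (V : X.Opens) (s : Γ(P, V)), mres M (inf_le_left : V ⊓ U ≤ V) (ψ.app V s) = 0) :
    P ⟶ (DCoh.gammaZ U.ι).obj M :=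
  kernel.lift _ ψ (by
    ext V s
    exact (unit_app_eq_zero_iff U M V _).2 (h V s))

theorem gammaLift_ι {P M : X.Modules} (ψ : P ⟶ M)
    (h : ∀ (V : X.Opens) (s : Γ(P, V)), mres M (inf_le_left : V ⊓ U ≤ V) (ψ.app V s) = 0) :
    gammaLift U ψ h ≫ (gammaι U.ι).app M = ψ :=
  kernel.lift_ι _ _ _

/-- Comparison with abelian sheaves. -/
def toShHom (M : X.Modules) :
    (toShAb X).obj ((DCoh.gammaZ U.ι).obj M) ⟶ (_root_.LocCohZ.sectSuppF (X := X.carrier) U).obj ((toShAb X).obj M) :=
  kernel.lift _ ((toShAb X).map ((gammaι U.ι).app M)) (by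
    refine ObjectProperty.hom_ext _ (NatTrans.ext (funext fun V => AddCommGrpCat.hom_ext (AddMonoidHom.ext fun s => ?_)))
    exact (LocCohZ.η_app_eq_zero_iff (X := X.carrier) U ((toShAb X).obj M) V.unop _).2 (gammaι_vanish U M V.unop s))

theorem toShHom_ι (M : X.Modules) :
    toShHom U M ≫ kernel.ι (LocCohZ.η (X := X.carrier) U ((toShAb X).obj M)) = (toShAb X).map ((gammaι U.ι).app M) :=
  kernel.lift_ι _ _ _

theorem bijective_toShHom (M : X.Modules) (V : X.Opens) :
    Function.Bijective ((toShHom U M).hom.app (op V)) := by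
  let κ := kernel.ι (LocCohZ.η (X := X.carrier) U ((toShAb X).obj M))
  have hκ : Function.Injective (κ.hom.app (op V)) := by
    haveI : Mono ((sheafToPresheaf _ _ ⋙ (evaluation _ _).obj (op V)).map κ) := inferInstance
    exact (AddCommGrpCat.mono_iff_injective _).1 this
  have hfac : ∀ s, κ.hom.app (op V) ((toShHom U M).hom.app (op V) s) = ((gammaι U.ι).app M).app V s :=
    fun s => congrArg (fun f : (toShAb X).obj ((DCoh.gammaZ U.ι).obj M) ⟶ (toShAb X).obj M => f.hom.app (op V) s)
      (toShHom_ι U M)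
  constructor
  · intro s t h
    exact gammaι_injective U M V ((hfac s).symm.trans ((congrArg _ h).trans (hfac t)))
  · intro t
    have h0 : (LocCohZ.η (X := X.carrier) U ((toShAb X).obj M)).hom.app (op V) (κ.hom.app (op V) t) = 0 :=
      congrArg (fun f : _ ⟶ (CohTop.push (CohCx.incl (X := X.carrier) U)).obj
        ((CohTop.pull (CohCx.incl (X := X.carrier) U)).obj ((toShAb X).obj M)) => f.hom.app (op V) t)
        (kernel.condition (LocCohZ.η (X := X.carrier) U ((toShAb X).obj M)))
    obtain ⟨y, hy⟩ := exists_gamma_preimage U M V (κ.hom.app (op V) t)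
      ((LocCohZ.η_app_eq_zero_iff (X := X.carrier) U ((toShAb X).obj M) V _).1 h0)
    exact ⟨y, hκ ((hfac y).trans hy)⟩

theorem isIso_toShHom (M : X.Modules) : IsIso (toShHom U M) := by
  let F := TopCat.Sheaf.forget AddCommGrpCat.{u} X.toPresheafedSpace.carrier
  haveI : ∀ V, IsIso ((F.map (toShHom U M)).app V) := fun V =>
    (ConcreteCategory.isIso_iff_bijective _).2 (bijective_toShHom U M V.unop)
  haveI hF : IsIso (F.map (toShHom U M)) := NatIso.isIso_of_isIso_app _
  haveI : IsIso ((sheafToPresheaf (Opens.grothendieckTopology X.carrier) AddCommGrpCat.{u}).map (toShHom U M)) := hF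
  exact (fullyFaithfulSheafToPresheaf (Opens.grothendieckTopology X.carrier) AddCommGrpCat.{u}).isIso_of_isIso_map
    (toShHom U M)

/-- `Γ_Z` commutes with passing to abelian sheaves. -/
def toShIso : DCoh.gammaZ U.ι ⋙ toShAb X ≅ toShAb X ⋙ _root_.LocCohZ.sectSuppF (X := X.carrier) U :=
  NatIso.ofComponents (fun M => @asIso _ _ _ _ (toShHom U M) (isIso_toShHom U M)) fun {M N} g => by
    rw [← cancel_mono (kernel.ι (LocCohZ.η (X := X.carrier) U ((toShAb X).obj N)))]
    refine (Category.assoc _ _ _).trans ((congrArg (_ ≫ ·) (toShHom_ι U N)).trans ?_)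
    refine ((toShAb X).map_comp _ _).symm.trans ((congrArg (toShAb X).map ((gammaι U.ι).naturality g)).trans ?_)
    refine ((toShAb X).map_comp _ _).trans ((congrArg (· ≫ (toShAb X).map g) (toShHom_ι U M).symm).trans ?_)
    refine (Category.assoc _ _ _).trans (Eq.trans ?_ (Category.assoc _ _ _).symm)
    exact congrArg (toShHom U M ≫ ·) (kernel.lift_ι _ _ _).symm

/-- Flasque on the level of abelian sheaves. -/
theorem nonempty_HZshM_toSh [HasInjectiveResolutions X.Modules] (M : X.Modules) (i : ℕ) :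
    Nonempty ((toShAb X).obj ((_root_.LocCohZ.HZshM U.ι i).obj M) ≅
      (_root_.LocCohZ.HZsh (X := X.carrier) U i).obj ((toShAb X).obj M)) := by
  haveI : (toShAb X).Additive := inferInstanceAs (SheafOfModules.toSheaf X.ringCatSheaf).Additive
  haveI : (toShAb X).PreservesHomology := inferInstance
  haveI : (_root_.LocCohZ.sectSuppF (X := X.carrier) U).Additive :=
    (fun (Y : TopCat.{u}) (V : Opens Y) => (inferInstance : (_root_.LocCohZ.sectSuppF V).Additive)) X.carrier U
  haveI : PreservesFiniteLimits (_root_.LocCohZ.sectSuppF (X := X.carrier) U) :=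
    (fun (Y : TopCat.{u}) (V : Opens Y) => (inferInstance : PreservesFiniteLimits (_root_.LocCohZ.sectSuppF V))) X.carrier U
  obtain ⟨e⟩ := RDComp.nonempty_rightDerivedAcyclicIso (toShAb X) (_root_.LocCohZ.sectSuppF (X := X.carrier) U)
    (fun I hI q hq => by
      haveI : TopCat.Sheaf.IsFlasque ((toShAb X).obj I) := CohFound.isFlasque_abF_injective I
      exact LocCohZ.isZero_HZsh_of_isFlasque U _ q hq) i
  exact ⟨((RDComp.rightDerivedPostIso (DCoh.gammaZ U.ι) (toShAb X) i).symm ≪≫
    ExtDerived.rightDerivedMapIso i (toShIso U) ≪≫ e).app M⟩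

theorem isZero_HZshM_iff [HasInjectiveResolutions X.Modules] (M : X.Modules) (i : ℕ) :
    IsZero ((_root_.LocCohZ.HZshM U.ι i).obj M) ↔
      IsZero ((_root_.LocCohZ.HZsh (X := X.carrier) U i).obj (Coh.toAb M)) := by
  obtain ⟨e⟩ := nonempty_HZshM_toSh U M i
  constructor
  · exact fun h => ((toShAb X).map_isZero h).of_iso e.symm
  · intro h
    rw [IsZero.iff_id_eq_zero]
    exact (toShAb X).map_injective ((h.of_iso e).eq_of_src _ _)

theorem isAcyclicObj_of_flasque [HasInjectiveResolutions X.Modules] (M : X.Modules)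
    [TopCat.Sheaf.IsFlasque ((toShAb X).obj M)] : RFPlus.IsAcyclicObj (DCoh.gammaZ U.ι) M :=
  fun q hq => (isZero_HZshM_iff U M q).2 (LocCohZ.isZero_HZsh_of_isFlasque U _ q hq)

section Restrict

variable {W : Scheme.{u}} (j : W ⟶ X) [IsOpenImmersion j]

theorem image_inf (V : W.Opens) : j ''ᵁ (V ⊓ j ⁻¹ᵁ U) = j ''ᵁ V ⊓ U := by
  apply Opens.ext
  ext x
  constructor
  · rintro ⟨w, ⟨hw, hu⟩, rfl⟩
    exact ⟨⟨w, hw, rfl⟩, hu⟩
  · rintro ⟨⟨w, hw, rfl⟩, hu⟩
    exact ⟨w, ⟨hw, hu⟩, rfl⟩

theorem mres_restrict_eq_zero_iff (M : X.Modules) (V : W.Opens) (t : Γ(M, j ''ᵁ V)) :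
    mres (M.restrict j) (inf_le_left : V ⊓ j ⁻¹ᵁ U ≤ V) t = 0 ↔
      mres M (inf_le_left : j ''ᵁ V ⊓ U ≤ j ''ᵁ V) t = 0 := by
  change mres M (j.image_mono inf_le_left) t = 0 ↔ _
  constructor
  · intro h
    rw [← mres_mres M (j.image_mono inf_le_left) (image_inf U j V).ge, h, map_zero]
  · intro h
    rw [← mres_mres M (inf_le_left : j ''ᵁ V ⊓ U ≤ j ''ᵁ V) (image_inf U j V).le, h, map_zero]

/-- Comparison of `Γ_Z` with restriction. -/
def restrictHom (M : X.Modules) :
    (Scheme.Modules.restrictFunctor j).obj ((DCoh.gammaZ U.ι).obj M) ⟶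
      (DCoh.gammaZ (j ⁻¹ᵁ U).ι).obj ((Scheme.Modules.restrictFunctor j).obj M) :=
  gammaLift (j ⁻¹ᵁ U) ((Scheme.Modules.restrictFunctor j).map ((gammaι U.ι).app M))
    (fun V s => (mres_restrict_eq_zero_iff U j M V _).2 (gammaι_vanish U M (j ''ᵁ V) s))

theorem restrictHom_ι (M : X.Modules) :
    restrictHom U j M ≫ (gammaι (j ⁻¹ᵁ U).ι).app ((Scheme.Modules.restrictFunctor j).obj M) =
      (Scheme.Modules.restrictFunctor j).map ((gammaι U.ι).app M) :=
  gammaLift_ι _ _ _

theorem restrictHom_app_ι (M : X.Modules) (V : W.Opens)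
    (s : Γ((Scheme.Modules.restrictFunctor j).obj ((DCoh.gammaZ U.ι).obj M), V)) :
    ((gammaι (j ⁻¹ᵁ U).ι).app ((Scheme.Modules.restrictFunctor j).obj M)).app V ((restrictHom U j M).app V s) =
      ((gammaι U.ι).app M).app (j ''ᵁ V) s :=
  ConcreteCategory.congr_hom (congrArg (fun f => Scheme.Modules.Hom.app f V) (restrictHom_ι U j M)) s

theorem bijective_restrictHom (M : X.Modules) (V : W.Opens) :
    Function.Bijective ((restrictHom U j M).app V) := by
  have hfac := restrictHom_app_ι U j M V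
  constructor
  · intro s t h
    exact gammaι_injective U M (j ''ᵁ V) ((hfac s).symm.trans ((congrArg _ h).trans (hfac t)))
  · intro t
    obtain ⟨y, hy⟩ := exists_gamma_preimage U M (j ''ᵁ V) (((gammaι (j ⁻¹ᵁ U).ι).app (M.restrict j)).app V t)
      ((mres_restrict_eq_zero_iff U j M V _).1 (gammaι_vanish (j ⁻¹ᵁ U) (M.restrict j) V t))
    exact ⟨y, gammaι_injective (j ⁻¹ᵁ U) (M.restrict j) V ((hfac y).trans hy)⟩

theorem isIso_restrictHom (M : X.Modules) : IsIso (restrictHom U j M) := by
  haveI : Mono (restrictHom U j M) := (mono_iff_app _).2 fun V => (bijective_restrictHom U j M V).1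
  haveI : Epi (restrictHom U j M) := (epi_iff_locally_surjective _).2 fun V t x hx => by
    obtain ⟨s, hs⟩ := (bijective_restrictHom U j M V).2 t
    exact ⟨V, le_rfl, hx, s, hs.trans (mres_id _ le_rfl t).symm⟩
  exact isIso_of_mono_of_epi _

/-- `Γ_Z` commutes with restriction to opens. -/
def restrictIso : DCoh.gammaZ U.ι ⋙ Scheme.Modules.restrictFunctor j ≅
    Scheme.Modules.restrictFunctor j ⋙ DCoh.gammaZ (j ⁻¹ᵁ U).ι :=
  NatIso.ofComponents (fun M => @asIso _ _ _ _ (restrictHom U j M) (isIso_restrictHom U j M)) fun {M N} g => by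
    haveI := mono_gammaι (j ⁻¹ᵁ U) ((Scheme.Modules.restrictFunctor j).obj N)
    rw [← cancel_mono ((gammaι (j ⁻¹ᵁ U).ι).app ((Scheme.Modules.restrictFunctor j).obj N))]
    dsimp only [Functor.comp_map, asIso_hom]
    rw [Category.assoc, Category.assoc, (gammaι (j ⁻¹ᵁ U).ι).naturality]
    dsimp only [restrictHom, Functor.id_map]
    rw [gammaLift_ι, ← Category.assoc, gammaLift_ι, ← Functor.map_comp, ← Functor.map_comp]
    exact congrArg (Scheme.Modules.restrictFunctor j).map ((gammaι U.ι).naturality g)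

theorem isFlasque_restrict_injective (I : X.Modules) [Injective I] :
    TopCat.Sheaf.IsFlasque ((toShAb W).obj (I.restrict j)) :=
  CohFound.isFlasque_mk _ fun _ _ h s => surjective_res_of_injective I (j.image_mono h) s

theorem preservesHomology_restrict : (Scheme.Modules.restrictFunctor j).PreservesHomology :=
  inferInstance

/-- `ℋ^i_Z` commutes with restriction to opens. -/
theorem nonempty_HZshM_restrict (i : ℕ) [HasInjectiveResolutions X.Modules] [HasInjectiveResolutions W.Modules] :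
    Nonempty (_root_.LocCohZ.HZshM U.ι i ⋙ Scheme.Modules.restrictFunctor j ≅
      Scheme.Modules.restrictFunctor j ⋙ _root_.LocCohZ.HZshM (j ⁻¹ᵁ U).ι i) := by
  haveI := preservesHomology_restrict (X := X) j
  haveI := preservesFiniteLimits_gammaZ (j ⁻¹ᵁ U).ι
  obtain ⟨e⟩ := RDComp.nonempty_rightDerivedAcyclicIso (Scheme.Modules.restrictFunctor j)
    (DCoh.gammaZ (j ⁻¹ᵁ U).ι) (fun I hI => by
      haveI := hI
      haveI := isFlasque_restrict_injective j I
      exact isAcyclicObj_of_flasque (j ⁻¹ᵁ U) (I.restrict j)) i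
  exact ⟨(RDComp.rightDerivedPostIso (DCoh.gammaZ U.ι) (Scheme.Modules.restrictFunctor j) i).symm ≪≫
    ExtDerived.rightDerivedMapIso i (restrictIso U j) ≪≫ e⟩

end Restrict

/-- Outside the support nothing: `ℋ^i_Z = 0` when `Z` is empty. -/
theorem isZero_HZshM_top [HasInjectiveResolutions X.Modules] (h : ∀ x : X, x ∈ U) (M : X.Modules) (i : ℕ) :
    IsZero ((_root_.LocCohZ.HZshM U.ι i).obj M) := by
  have h0 : ∀ N : X.Modules, IsZero ((DCoh.gammaZ U.ι).obj N) := fun N => by
    rw [IsZero.iff_id_eq_zero]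
    ext V s
    refine gammaι_injective U N V ?_
    change ((gammaι U.ι).app N).app V s = ((gammaι U.ι).app N).app V 0
    rw [map_zero]
    have hle : V ≤ V ⊓ U := fun x hx => ⟨hx, h x⟩
    have h1 := gammaι_vanish U N V s
    have h2 := congrArg (mres N hle) h1
    rw [map_zero, mres_mres, mres_id] at h2
    exact h2
  let R := injectiveResolution M
  refine IsZero.of_iso ?_ (R.isoRightDerivedObj (DCoh.gammaZ U.ι) i)
  exact HomologicalComplex.ExactAt.isZero_homology ((HomologicalComplex.exactAt_iff _ i).2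
    (ShortComplex.exact_of_isZero_X₂ _ (h0 _)))

/-- Vanishing can be checked on an open cover. -/
theorem isZero_of_cover (M : X.Modules) {ι : Type*} (W : ι → X.Opens) (hW : ∀ x : X, ∃ k, x ∈ W k)
    (h : ∀ k, IsZero ((Scheme.Modules.restrictFunctor (W k).ι).obj M)) : IsZero M := by
  rw [IsZero.iff_id_eq_zero]
  exact hom_eq_zero_of_cover _ W hW fun k => (h k).eq_of_src _ _

end Groth.Agent.LocCohZQ
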