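import Groth.Agent.Lib.LocCohZ.Support
import Groth.Agent.Lib.CohFound.Bridge
import Groth.Agent.Lib.CohFound.Flasque
import Groth.Agent.Lib.CohFound.DimShift

/-!
Sections with supports of flasque sheaves.
-/

set_option autoImplicit false

universe u

open CategoryTheory CategoryTheory.Limits Opposite TopologicalSpace

namespace Groth.Agent.LocCohZ

variable {X : TopCat.{u}}

theorem map_map (F : CohTop.Ab X) {A B C : Opens X} (h : B ≤ A) (h' : C ≤ B)
    (s : F.obj.obj (op A)) :
    (F.obj.map (homOfLE h').op).hom ((F.obj.map (homOfLE h).op).hom s) =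
      (F.obj.map (homOfLE (h'.trans h)).op).hom s := by
  refine (ConcreteCategory.comp_apply _ _ s).symm.trans ?_
  rw [← Functor.map_comp]
  rfl

theorem map_rfl (F : CohTop.Ab X) {A : Opens X} (h : A ≤ A) (s : F.obj.obj (op A)) :
    (F.obj.map (homOfLE h).op).hom s = s := by
  rw [show (homOfLE h).op = 𝟙 (op A) from rfl, CategoryTheory.Functor.map_id]
  rfl

/-- Glue a section with zero. -/
theorem exists_glue_zero (F : CohTop.Ab X) (W W' : Opens X) (a : F.obj.obj (op W))
    (h : (F.obj.map (homOfLE (inf_le_left : W ⊓ W' ≤ W)).op).hom a = 0) :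
    ∃ s : F.obj.obj (op (W ⊔ W')), (F.obj.map (homOfLE le_sup_left).op).hom s = a ∧
      (F.obj.map (homOfLE (le_sup_right : W' ≤ W ⊔ W')).op).hom s = 0 := by
  let cov : ULift.{u} Bool → Opens X := fun b => bif b.down then W else W'
  let sf : ∀ b, ToType (F.obj.obj (op (cov b))) := fun b => match b with
    | ⟨true⟩ => a
    | ⟨false⟩ => 0
  have hc : TopCat.Presheaf.IsCompatible F.obj cov sf := by
    rintro ⟨_ | _⟩ ⟨_ | _⟩
    · rfl
    · refine (map_zero (F.obj.map _).hom).trans (Eq.symm ?_)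
      exact (map_map F inf_le_left (le_inf inf_le_right inf_le_left) a).symm.trans
        (by rw [h]; exact map_zero _)
    · refine Eq.trans ?_ (map_zero (F.obj.map _).hom).symm
      exact (map_map F inf_le_left (le_inf inf_le_left inf_le_right) a).symm.trans
        (by rw [h]; exact map_zero _)
    · rfl
  obtain ⟨s, hs, -⟩ := TopCat.Sheaf.existsUnique_gluing' (F := (F : TopCat.Sheaf AddCommGrpCat.{u} X))
    (U := cov) (W ⊔ W')
    (fun b => homOfLE (match b with
      | ⟨true⟩ => le_sup_left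
      | ⟨false⟩ => le_sup_right))
    (sup_le (le_iSup cov ⟨true⟩) (le_iSup cov ⟨false⟩)) sf hc
  exact ⟨s, hs ⟨true⟩, hs ⟨false⟩⟩

variable (U : Opens X)

/-- Sections of `Γ_Z(F)`. -/
theorem exists_sectSupp_section (F : CohTop.Ab X) (V : Opens X) (s : F.obj.obj (op V))
    (h : (F.obj.map (homOfLE (inf_le_left : V ⊓ U ≤ V)).op).hom s = 0) :
    ∃ t : (CohCx.sectSupp U F).obj.obj (op V),
      ((kernel.ι (η U F)).hom.app (op V)).hom t = s := by
  have hφ : CohFree.ofSect (Opens.grothendieckTopology X) V F s ≫ η U F = 0 := by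
    rw [comp_η_eq_zero_iff,
      ← (CohFree.homEquivSect (Opens.grothendieckTopology X) (V ⊓ U) _).map_eq_zero_iff,
      CohFree.homEquivSect_apply, CohFree.evalGen_freeSheafMap_comp, CohFree.evalGen_ofSect]
    exact h
  refine ⟨CohFree.evalGen (Opens.grothendieckTopology X) V _ (kernel.lift _ _ hφ), ?_⟩
  exact (congrArg (CohFree.evalGen (Opens.grothendieckTopology X) V F)
    (kernel.lift_ι (η U F) _ hφ)).trans (CohFree.evalGen_ofSect _ V F s)

theorem sectSupp_section_restr (F : CohTop.Ab X) (V : Opens X)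
    (t : (CohCx.sectSupp U F).obj.obj (op V)) :
    (F.obj.map (homOfLE (inf_le_left : V ⊓ U ≤ V)).op).hom
      (((kernel.ι (η U F)).hom.app (op V)).hom t) = 0 := by
  rw [← η_app_eq_zero_iff]
  have e := ConcreteCategory.congr_hom
    (NatTrans.congr_app (congrArg InducedCategory.Hom.hom (kernel.condition (η U F))) (op V)) t
  exact e

theorem isFlasque_sectSupp (A : CohTop.Ab X) [TopCat.Sheaf.IsFlasque A] :
    TopCat.Sheaf.IsFlasque ((_root_.LocCohZ.sectSuppF U).obj A) :=
  CohFound.isFlasque_mk _ fun V W hWV t => by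
    obtain ⟨s, hs, hs'⟩ := exists_glue_zero A W (V ⊓ U) (((kernel.ι (η U A)).hom.app (op W)).hom t) (by
      rw [← map_map A (inf_le_left : W ⊓ U ≤ W) (inf_le_inf_left W inf_le_right)]
      exact (congrArg _ (sectSupp_section_restr U A W t)).trans (map_zero _))
    obtain ⟨s', rfl⟩ := CohFound.flasque_surjective A (sup_le hWV inf_le_left) s
    obtain ⟨t', ht'⟩ := exists_sectSupp_section U A V s' (by
      rw [← hs']
      exact (map_map A _ _ s').symm)
    refine ⟨t', CohFound.injective_app_of_mono (kernel.ι (η U A)) W ?_⟩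
    refine (ConcreteCategory.congr_hom ((kernel.ι (η U A)).hom.naturality (homOfLE hWV).op) t').trans ?_
    refine (congrArg _ ht').trans ?_
    exact (map_map A _ _ s').symm.trans hs

theorem subsingleton_hc_sectSupp (A : CohTop.Ab X) [TopCat.Sheaf.IsFlasque A] (n : ℕ) (V : Opens X) :
    Subsingleton (CohFound.Hc ((_root_.LocCohZ.sectSuppF U).obj A) (n + 1) V) :=
  have := isFlasque_sectSupp U A
  CohFound.subsingleton_hc_of_isFlasque _ n V

end Groth.Agent.LocCohZ

namespace Groth.Agent.LocCohZ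

variable {X : TopCat.{u}}

/-- `H^n(V, -) = Rⁿ Hom(ℤ_V, -)`. -/
noncomputable def rightDerivedFreeIso (V : Opens X) (n : ℕ) (F : CohTop.Ab X) :
    ((preadditiveCoyoneda.obj (op (CohCx.freeSheaf (Opens.grothendieckTopology X) V))).rightDerived n).obj F ≅
      AddCommGrpCat.of (CohFound.Hc F n V) :=
  ExtDerived.rightDerivedCoyonedaIso (CohCx.freeSheaf (Opens.grothendieckTopology X) V) n F

theorem isZero_rightDerived_free_sectSupp (U : Opens X) (Q : CohTop.Ab X) [Injective Q] (V : Opens X)
    (n : ℕ) (hn : 0 < n) :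
    IsZero (((preadditiveCoyoneda.obj (op (CohCx.freeSheaf (Opens.grothendieckTopology X) V))).rightDerived n).obj
      ((_root_.LocCohZ.sectSuppF U).obj Q)) := by
  obtain ⟨m, rfl⟩ : ∃ m, n = m + 1 := ⟨n - 1, by omega⟩
  have := subsingleton_hc_sectSupp U Q m V
  exact (AddCommGrpCat.isZero_of_subsingleton _).of_iso (rightDerivedFreeIso V (m + 1) _)

end Groth.Agent.LocCohZ
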