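import Groth.Agent.Lib.CohFound.Push
import Groth.Agent.Lib.CohFound.Inst
import Groth.Agent.Lib.RDComp.Basic
import Mathlib.CategoryTheory.Functor.KanExtension.Adjunction

/-!
Restriction to an open subspace is exact and preserves injective sheaves.
-/

set_option autoImplicit false

universe u

open CategoryTheory CategoryTheory.Limits Opposite TopologicalSpace Topology

namespace Groth.Agent.LocCohZ

variable {X : TopCat.{u}} (U : Opens X)

theorem isZero_pt_of_isEmpty {J : Type*} [Category J] [IsEmpty J] {D : Type*} [Category D]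
    [Preadditive D] {F : J ⥤ D} {c : Cocone F} (hc : IsColimit c) : IsZero c.pt :=
  (IsZero.iff_id_eq_zero _).2 (hc.hom_ext fun j => isEmptyElim j)

theorem mono_of_square {D : Type*} [Category D] {A A' B B' : D} {a : A ⟶ A'} {b : B ⟶ B'}
    {f : A ⟶ B} {g : A' ⟶ B'} (ha : IsIso a) (hb : IsIso b) (hf : Mono f) (e : a ≫ g = f ≫ b) :
    Mono g := by
  rw [show g = inv a ≫ f ≫ b from (IsIso.eq_inv_comp a).2 e]
  infer_instance

/-- The left Kan extension along a functor with thin, conditionally terminal comma categories
preserves monomorphisms. -/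
theorem mono_lan_map {C D : Type u} [SmallCategory C] [SmallCategory D] (L : C ⥤ D)
    (hL : ∀ V : D, IsEmpty (CostructuredArrow L V) ∨ HasTerminal (CostructuredArrow L V))
    [∀ F : C ⥤ AddCommGrpCat.{u}, L.HasPointwiseLeftKanExtension F]
    {F G : C ⥤ AddCommGrpCat.{u}} (α : F ⟶ G) [Mono α] : Mono (L.lan.map α) := by
  have key : ∀ V : D, Mono ((L.lan.map α).app V) := fun V => by
    have hF := L.isPointwiseLeftKanExtensionLeftKanExtensionUnit F V
    have hG := L.isPointwiseLeftKanExtensionLeftKanExtensionUnit G V
    rcases hL V with h | h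
    · exact ⟨fun a b _ => (isZero_pt_of_isEmpty hF).eq_of_tgt a b⟩
    · let t := ⊤_ (CostructuredArrow L V)
      have i1 := hF.isIso_ι_app_of_isTerminal t terminalIsTerminal
      have i2 := hG.isIso_ι_app_of_isTerminal t terminalIsTerminal
      have e : ((Functor.LeftExtension.mk _ (L.lanUnit.app F)).coconeAt V).ι.app t ≫
          (L.lan.map α).app V = α.app t.left ≫
          ((Functor.LeftExtension.mk _ (L.lanUnit.app G)).coconeAt V).ι.app t := by
        have n1 := NatTrans.congr_app (L.lanUnit.naturality α) t.left
        simp only [Functor.id_map, Functor.comp_map, NatTrans.comp_app,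
          Functor.whiskeringLeft_obj_map, Functor.whiskerLeft_app] at n1
        have n2 := (L.lan.map α).naturality t.hom
        simp only [Functor.LeftExtension.coconeAt_ι_app, Functor.LeftExtension.mk_hom,
          Functor.LeftExtension.mk_right]
        refine (Category.assoc _ _ _).trans ((congrArg (_ ≫ ·) n2).trans ?_)
        exact (Category.assoc _ _ _).symm.trans ((congrArg (· ≫ _) n1.symm).trans (Category.assoc _ _ _))
      exact mono_of_square i1 i2 ((NatTrans.mono_iff_mono_app α).1 inferInstance t.left) e
  exact NatTrans.mono_of_mono_app _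

theorem injective_restr (I : CohTop.Ab X) [Injective I] : Injective (CohTop.restr I U) where
  factors {A B} φ ι hι := by
    let hU : IsOpenEmbedding (TopCat.Hom.hom (TopCat.ofHom ⟨_, continuous_subtype_val⟩ :
        TopCat.of U ⟶ X)) := U.isOpenEmbedding
    let L := hU.isOpenMap.functor.op
    have hL : ∀ V, IsEmpty (CostructuredArrow L V) ∨ HasTerminal (CostructuredArrow L V) := fun V => by
      by_cases hV : IsEmpty (CostructuredArrow L V)
      · exact Or.inl hV
      right
      obtain ⟨⟨W, ⟨⟩, f⟩⟩ := not_isEmpty_iff.1 hV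
      have hVU : (V.unop : Set X) ⊆ Set.range Subtype.val := fun x hx => by
        obtain ⟨y, -, hy⟩ := (leOfHom f.unop) hx
        exact ⟨y, hy⟩
      let W₀ : Opens (TopCat.of U) := (Opens.map (TopCat.ofHom ⟨_, continuous_subtype_val⟩)).obj V.unop
      let T : CostructuredArrow L V := CostructuredArrow.mk (Y := op W₀)
        (homOfLE (fun x hx => by obtain ⟨y, rfl⟩ := hVU hx; exact ⟨y, hx, rfl⟩)).op
      have hT : ∀ S : CostructuredArrow L V, Nonempty (S ⟶ T) := fun S => by
        refine ⟨CostructuredArrow.homMk (homOfLE (fun y hy => ?_)).op (Subsingleton.elim _ _)⟩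
        obtain ⟨y', hy', e⟩ := (leOfHom S.hom.unop) hy
        rwa [← Subtype.ext e]
      exact (IsTerminal.ofUniqueHom (fun S => (hT S).some)
        (fun S m => CostructuredArrow.hom_ext _ _ (Subsingleton.elim _ _))).hasTerminal
    have : Mono ι.hom := (sheafToPresheaf _ _).map_mono ι
    let adj := L.lanAdjunction AddCommGrpCat.{u}
    have : Mono (L.lan.map ι.hom) := mono_lan_map L hL ι.hom
    let sadj := sheafificationAdjunction (Opens.grothendieckTopology X) AddCommGrpCat.{u}
    have : Mono ((presheafToSheaf (Opens.grothendieckTopology X) AddCommGrpCat.{u}).map (L.lan.map ι.hom)) :=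
      (presheafToSheaf _ _).map_mono _
    let φ₁ : (presheafToSheaf _ _).obj (L.lan.obj A.obj) ⟶ I :=
      (sadj.homEquiv _ I).symm ((adj.homEquiv A.obj I.obj).symm φ.hom)
    let ψ₁ := Injective.factorThru φ₁
      ((presheafToSheaf (Opens.grothendieckTopology X) AddCommGrpCat.{u}).map (L.lan.map ι.hom))
    refine ⟨ObjectProperty.homMk ((adj.homEquiv B.obj I.obj) ((sadj.homEquiv _ I) ψ₁)), ?_⟩
    apply ObjectProperty.hom_ext
    change ι.hom ≫ (adj.homEquiv B.obj I.obj) ((sadj.homEquiv _ I) ψ₁) = φ.hom
    rw [← adj.homEquiv_naturality_left, ← sadj.homEquiv_naturality_left, Injective.comp_factorThru,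
      Equiv.apply_symm_apply, Equiv.apply_symm_apply]

instance preservesInjectiveObjects_restr : (CohTop.restrFunctor U).PreservesInjectiveObjects where
  injective_obj {I} _ := injective_restr U I

instance preservesHomology_restr : (CohTop.restrFunctor U).PreservesHomology :=
  ((CohTop.restrFunctor U).exact_tfae.out 0 2).1 fun _ hS => CohFound.shortExact_restr U hS

end Groth.Agent.LocCohZ
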