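import Groth.Agent.Lib.LocCohZ.Flasque

/-!
Vanishing of cohomology with supports for flasque sheaves; direct images.
-/

set_option autoImplicit false

universe u

open CategoryTheory CategoryTheory.Limits Opposite TopologicalSpace

namespace Groth.Agent.LocCohZ

variable {X : TopCat.{u}}

theorem subsingleton_HZ_of_isFlasque (F : CohTop.Ab X) [TopCat.Sheaf.IsFlasque F] {W V : Opens X}
    (h : W ≤ V) (n : ℕ) : Subsingleton (_root_.LocCohZ.HZ F (n + 1) h) := by
  refine subsingleton_of_forall_eq 0 fun (x : Abelian.Ext.{u} (_root_.LocCohZ.zq h) F (n + 1)) => ?_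
  have hV : (Abelian.Ext.mk₀ (_root_.LocCohZ.zqSeq h).g).comp x (zero_add _) = 0 :=
    @Subsingleton.elim _ (CohFound.subsingleton_hc_of_isFlasque F n V) _ _
  obtain ⟨y, rfl⟩ := Abelian.Ext.contravariant_sequence_exact₃
    (_root_.LocCohZ.zqSeq_shortExact h) F x hV (n₀ := n) (by omega)
  cases n with
  | zero =>
    obtain ⟨φ, rfl⟩ := (Abelian.Ext.mk₀_bijective _ _).2 y
    obtain ⟨s, hs⟩ := CohFound.flasque_surjective F h
      (CohFree.homEquivSect (Opens.grothendieckTopology X) W F φ)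
    let ψ : (_root_.LocCohZ.zqSeq h).X₂ ⟶ F := CohFree.ofSect (Opens.grothendieckTopology X) V F s
    have hφ : φ = (_root_.LocCohZ.zqSeq h).f ≫ ψ := by
      apply (CohFree.homEquivSect (Opens.grothendieckTopology X) W F).injective
      change _ = CohFree.evalGen (Opens.grothendieckTopology X) W F
        (CohCx.freeSheafMap (Opens.grothendieckTopology X) (homOfLE h) ≫
          CohFree.ofSect (Opens.grothendieckTopology X) V F s)
      rw [CohFree.evalGen_freeSheafMap_comp, CohFree.evalGen_ofSect]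
      exact hs.symm
    rw [hφ, ← Abelian.Ext.mk₀_comp_mk₀]
    exact ShortComplex.ShortExact.extClass_comp_assoc _ _
  | succ m =>
    have : y = 0 := @Subsingleton.elim _ (CohFound.subsingleton_hc_of_isFlasque F m W) _ _
    rw [this, Abelian.Ext.comp_zero]
    rfl

theorem isZero_rightDerived_zq (F : CohTop.Ab X) [TopCat.Sheaf.IsFlasque F] {W V : Opens X}
    (h : W ≤ V) (n : ℕ) (hn : 0 < n) :
    IsZero (((preadditiveCoyoneda.obj (op (_root_.LocCohZ.zq h))).rightDerived n).obj F) := by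
  obtain ⟨m, rfl⟩ : ∃ m, n = m + 1 := ⟨n - 1, by omega⟩
  have := subsingleton_HZ_of_isFlasque F h m
  exact (AddCommGrpCat.isZero_of_subsingleton _).of_iso
    (ExtDerived.rightDerivedCoyonedaIso (_root_.LocCohZ.zq h) (m + 1) F)

/-- `Hom(ℤ_V/ℤ_W, F)` as sections. -/
noncomputable def zqHomEquiv (F : CohTop.Ab X) {W V : Opens X} (h : W ≤ V) :
    (_root_.LocCohZ.zq h ⟶ F) ≃+ _root_.LocCohZ.sectZ F h :=
  Abelian.Ext.addEquiv₀.symm.trans (_root_.LocCohZ.sect0Equiv F h)

theorem zqHomEquiv_val (F : CohTop.Ab X) {W V : Opens X} (h : W ≤ V)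
    (φ : _root_.LocCohZ.zq h ⟶ F) :
    (zqHomEquiv F h φ).1 = CohFree.evalGen (Opens.grothendieckTopology X) V F (cokernel.π _ ≫ φ) := by
  change CohFree.evalGen _ _ _ (_ ≫ Abelian.Ext.addEquiv₀ (Abelian.Ext.addEquiv₀.symm φ)) = _
  rw [AddEquiv.apply_symm_apply]

variable {Y : TopCat.{u}} (f : X ⟶ Y) (V : Opens Y)

/-- `Γ_Z(Y, f_* -) = Γ_{f⁻¹Z}(X, -)`. -/
noncomputable def pushCompIso :
    CohTop.push f ⋙ preadditiveCoyoneda.obj (op (_root_.LocCohZ.zq (le_top : V ≤ ⊤))) ≅
      preadditiveCoyoneda.obj (op (_root_.LocCohZ.zq (le_top : (Opens.map f).obj V ≤ ⊤))) :=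
  NatIso.ofComponents
    (fun F => AddEquiv.toAddCommGrpIso ((zqHomEquiv ((CohTop.push f).obj F) (le_top : V ≤ ⊤)).trans
      (zqHomEquiv F (le_top : (Opens.map f).obj V ≤ ⊤)).symm))
    (fun {F G} g => by
      ext φ
      apply (zqHomEquiv G (le_top : (Opens.map f).obj V ≤ ⊤)).injective
      apply Subtype.ext
      refine Eq.trans (congrArg Subtype.val (AddEquiv.apply_symm_apply _ _)) ?_
      refine Eq.trans ?_ (zqHomEquiv_val _ _ _).symm
      refine (zqHomEquiv_val _ _ _).trans ?_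
      refine Eq.trans ?_ (congrArg (CohFree.evalGen (Opens.grothendieckTopology X) ⊤ G)
        (Category.assoc (cokernel.π _) _ g))
      have e : CohFree.evalGen (Opens.grothendieckTopology X) ⊤ F
          (cokernel.π _ ≫ (zqHomEquiv F (le_top : (Opens.map f).obj V ≤ ⊤)).symm
            (zqHomEquiv ((CohTop.push f).obj F) (le_top : V ≤ ⊤) φ)) =
          CohFree.evalGen (Opens.grothendieckTopology Y) ⊤ ((CohTop.push f).obj F) (cokernel.π _ ≫ φ) :=
        (zqHomEquiv_val _ _ _).symm.trans ((congrArg Subtype.val (AddEquiv.apply_symm_apply _ _)).trans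
          (zqHomEquiv_val _ _ _))
      exact (congrArg (g.hom.app (op (⊤ : Opens X))).hom e).symm)

end Groth.Agent.LocCohZ
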